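import Groth.Agent.Lib.Gabber15.ModifCover
import Groth.Agent.Lib.AlgSpace.Diag
import Groth.Agent.Lib.AlgSpace.PointsBC
import Groth.Agent.Lib.AlgSpDescent.LocSurj
import Mathlib.AlgebraicGeometry.Morphisms.FinitePresentation

/-!
# Spectra over an affine chart
-/

universe u

set_option backward.isDefEq.respectTransparency.types false

open CategoryTheory CategoryTheory.Limits AlgebraicGeometry TensorProduct
open AlgSp Groth.Agent.AlgSpace Groth.Agent.AlgSpDescent Groth.Agent.AlgSpDecent

namespace Groth.Agent.GlueModif25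

/-- A closed subscheme of a spectrum through its ideal. -/
theorem exists_ideal_of_closed {T : Type u} [CommRing T] {E : Scheme.{u}} (e : E ⟶ Spec (CommRingCat.of T))
    [IsClosedImmersion e] :
    ∃ I : Ideal T, (LocallyOfFinitePresentation e → I.FG) ∧
      ∀ (U : Type u) [CommRing U] (θ : T →+* U),
        (∃ l : Spec (CommRingCat.of U) ⟶ E, l ≫ e = Spec.map (CommRingCat.ofHom θ)) ↔ I ≤ RingHom.ker θ := by
  obtain ⟨I, i, hi⟩ := (IsClosedImmersion.Spec_iff (R := CommRingCat.of T) (f := e)).1 inferInstance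
  refine ⟨I, fun h => ?_, fun U _ θ => ⟨?_, fun h => ?_⟩⟩
  · have h1 : LocallyOfFinitePresentation (Spec.map (CommRingCat.ofHom (Ideal.Quotient.mk I))) :=
      (MorphismProperty.cancel_left_of_respectsIso @LocallyOfFinitePresentation i.hom _).1 (hi ▸ h)
    have h2 : (Ideal.Quotient.mk I).FinitePresentation :=
      (HasRingHomProperty.Spec_iff (P := @LocallyOfFinitePresentation)).1 h1
    have : Algebra.FinitePresentation T (T ⧸ I) := RingHom.finitePresentation_algebraMap.1 h2
    have h3 := Algebra.FinitePresentation.ker_fG_of_surjective (Algebra.ofId T (T ⧸ I)) Ideal.Quotient.mk_surjective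
    rwa [show RingHom.ker (Algebra.ofId T (T ⧸ I)).toRingHom = I from Ideal.mk_ker] at h3
  · rintro ⟨l, hl⟩ k hk
    obtain ⟨g, hg⟩ := Spec.map_surjective (l ≫ i.hom)
    rw [hi, ← Category.assoc, ← hg, ← Spec.map_comp] at hl
    have h4 := RingHom.congr_fun (congrArg CommRingCat.Hom.hom (Spec.map_injective hl)) k
    rw [RingHom.mem_ker]
    refine (h4.symm : θ k = g.hom (Ideal.Quotient.mk I k)).trans ?_
    show g.hom (Ideal.Quotient.mk I k) = 0
    rw [Ideal.Quotient.eq_zero_iff_mem.2 hk]
    exact map_zero _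
  · refine ⟨Spec.map (CommRingCat.ofHom (Ideal.Quotient.lift I θ h)) ≫ i.inv, ?_⟩
    rw [hi, Category.assoc, i.inv_hom_id_assoc, ← Spec.map_comp]
    rfl

variable {S : Scheme.{u}} {A : Type u} [CommRing A] (sA : Spec (CommRingCat.of A) ⟶ S)

/-- The spectrum of an algebra as an object over the base. -/
noncomputable abbrev ob (T : Type u) [CommRing T] [Algebra A T] : Over S :=
  Over.mk (Spec.map (CommRingCat.ofHom (algebraMap A T)) ≫ sA)

/-- The morphism of spectra of an algebra map. -/
noncomputable abbrev obMap {T T' : Type u} [CommRing T] [CommRing T'] [Algebra A T] [Algebra A T']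
    (φ : T →ₐ[A] T') : ob sA T' ⟶ ob sA T :=
  Over.homMk (Spec.map (CommRingCat.ofHom φ.toRingHom)) (by
    change Spec.map _ ≫ Spec.map _ ≫ sA = Spec.map _ ≫ sA
    rw [← Category.assoc, ← Spec.map_comp, ← CommRingCat.ofHom_comp]
    exact congrArg (fun r => Spec.map (CommRingCat.ofHom r) ≫ sA) φ.comp_algebraMap)

/-- The structure map to the chart. -/
noncomputable abbrev obStr (T : Type u) [CommRing T] [Algebra A T] : ob sA T ⟶ Over.mk sA :=
  Over.homMk (Spec.map (CommRingCat.ofHom (algebraMap A T))) rfl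

theorem obMap_comp {T T' T'' : Type u} [CommRing T] [CommRing T'] [CommRing T''] [Algebra A T] [Algebra A T']
    [Algebra A T''] (φ : T →ₐ[A] T') (ψ : T' →ₐ[A] T'') :
    obMap sA (ψ.comp φ) = obMap sA ψ ≫ obMap sA φ := by
  ext1
  exact (congrArg Spec.map (CommRingCat.ofHom_comp φ.toRingHom ψ.toRingHom)).trans (Spec.map_comp _ _)

theorem obMap_str {T T' : Type u} [CommRing T] [CommRing T'] [Algebra A T] [Algebra A T'] (φ : T →ₐ[A] T') :
    obMap sA φ ≫ obStr sA T = obStr sA T' := by
  ext1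
  change Spec.map _ ≫ Spec.map _ = Spec.map _
  rw [← Spec.map_comp, ← CommRingCat.ofHom_comp]
  exact congrArg (fun r => Spec.map (CommRingCat.ofHom r)) φ.comp_algebraMap

/-- An affine chart is a spectrum. -/
theorem exists_iso_ob {T : Over S} [IsAffine T.left] (t : T ⟶ Over.mk sA) :
    ∃ (B : Type u) (_ : CommRing B) (_ : Algebra A B) (i : ob sA B ≅ T), i.hom ≫ t = obStr sA B := by
  let ψ : CommRingCat.of A ⟶ Γ(T.left, ⊤) := Spec.preimage (T.left.isoSpec.inv ≫ t.left)
  letI : Algebra A Γ(T.left, ⊤) := ψ.hom.toAlgebra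
  have hψ : Spec.map ψ = T.left.isoSpec.inv ≫ t.left := Spec.map_preimage _
  refine ⟨Γ(T.left, ⊤), inferInstance, inferInstance, Over.isoMk T.left.isoSpec.symm ?_, ?_⟩
  · change T.left.isoSpec.inv ≫ T.hom = Spec.map ψ ≫ sA
    rw [hψ, Category.assoc]
    exact congrArg (T.left.isoSpec.inv ≫ ·) (Over.w t).symm
  · ext1
    exact hψ.symm

/-- Maps out of a scheme are determined on the base changes of jointly surjective etale charts. -/
theorem hom_ext_charts {F G : Sp S} {κ : Type u} (W : κ → Over S) (c : ∀ k, (yon S).obj (W k) ⟶ F)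
    (hc : ∀ k, RepWith @Etale (c k)) (hcov : ∀ x, ∃ k w, Points.map (c k) w = x) {T : Over S}
    (x : (yon S).obj T ⟶ F) {z z' : (yon S).obj T ⟶ G}
    (h : ∀ k (T' : Over S) (t : T' ⟶ T) (w : T' ⟶ W k), (yon S).map w ≫ c k = (yon S).map t ≫ x →
      (yon S).map t ≫ z = (yon S).map t ≫ z') : z = z' := by
  let sq := fun k => (hc k).1.isPullback x
  let 𝒰 : Scheme.Cover.{u} Scheme.fppfPrecoverage.{u} T.left :=
    Scheme.Cover.mkOfCovers κ (fun k => ((hc k).1.pullback x).left) (fun k => ((hc k).1.snd x).left)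
      (fun t => by
        obtain ⟨k, v, hv⟩ := hcov (Points.ofPt x t)
        obtain ⟨w, -, hw⟩ := exists_pt_of_isPullback (sq k) (x := v) hv
        exact ⟨k, w, hw⟩) fun k => by
      have : Etale ((hc k).1.snd x).left := (hc k).2 _ _ _ (sq k)
      exact ⟨inferInstance, inferInstance⟩
  refine hom_ext_fppf 𝒰 fun k => ?_
  obtain ⟨m, hm⟩ := (yon S).map_surjective ((hc k).1.fst x)
  let e₀ : Over.mk (((hc k).1.snd x).left ≫ T.hom) ⟶ (hc k).1.pullback x :=
    CategoryTheory.Over.homMk (𝟙 _) ((Category.id_comp _).trans (Over.w _).symm)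
  have he₀ : overArrow (U := T) (((hc k).1.snd x).left) = e₀ ≫ (hc k).1.snd x :=
    Over.OverMorphism.ext (Category.id_comp _).symm
  change (yon S).map (overArrow (U := T) ((hc k).1.snd x).left) ≫ _ =
    (yon S).map (overArrow (U := T) ((hc k).1.snd x).left) ≫ _
  rw [he₀]
  exact h k _ _ (e₀ ≫ m) (by rw [(yon S).map_comp, (yon S).map_comp, Category.assoc, Category.assoc, hm, (sq k).w])

end Groth.Agent.GlueModif25
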