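import Groth.Agent.Lib.GlueModif25.Ring
import Groth.Agent.Lib.GlueModif25.Charts
import Mathlib.AlgebraicGeometry.Morphisms.Flat
import Mathlib.RingTheory.RingHom.Flat

/-!
# Agreement of lifts to a modification
-/

universe u

set_option backward.isDefEq.respectTransparency.types false

open CategoryTheory CategoryTheory.Limits AlgebraicGeometry TensorProduct
open AlgSp Groth.Agent.AlgSpace Groth.Agent.AlgSpDescent Groth.Agent.AlgSpDecent

namespace Groth.Agent.GlueModif25

variable {S : Scheme.{u}} {A : Type u} [CommRing A] (sA : Spec (CommRingCat.of A) ⟶ S)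

/-- Points of a closed subscheme lie over its ideal. -/
theorem le_of_mem_range {E : Scheme.{u}} (e : E ⟶ Spec (CommRingCat.of A)) (I : Ideal A)
    (hI : ∀ (U : Type u) [CommRing U] (θ : A →+* U),
      (∃ l : Spec (CommRingCat.of U) ⟶ E, l ≫ e = Spec.map (CommRingCat.ofHom θ)) ↔ I ≤ RingHom.ker θ)
    (v : E) : I ≤ (e v : PrimeSpectrum A).asIdeal := by
  obtain ⟨θ, hθ⟩ := Spec.map_surjective (E.fromSpecResidueField v ≫ e)
  have h := (hI _ θ.hom).1 ⟨E.fromSpecResidueField v, hθ.symm⟩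
  intro k hk
  have hv : e v = (Spec.map θ) (IsLocalRing.closedPoint (E.residueField v)) := by
    rw [hθ, Scheme.Hom.comp_apply, Scheme.fromSpecResidueField_apply]
  rw [hv]
  show θ.hom k ∈ (IsLocalRing.closedPoint (E.residueField v)).asIdeal
  rw [RingHom.mem_ker.1 (h hk)]
  exact zero_mem _

theorem mem_range_of_le {E : Scheme.{u}} (e : E ⟶ Spec (CommRingCat.of A)) (I : Ideal A)
    (hI : ∀ (U : Type u) [CommRing U] (θ : A →+* U),
      (∃ l : Spec (CommRingCat.of U) ⟶ E, l ≫ e = Spec.map (CommRingCat.ofHom θ)) ↔ I ≤ RingHom.ker θ)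
    (x : PrimeSpectrum A) (hx : I ≤ x.asIdeal) : ∃ v : E, e v = x := by
  obtain ⟨l, hl⟩ := (hI x.asIdeal.ResidueField (algebraMap A _)).2 (fun k hk =>
    (Ideal.algebraMap_residueField_eq_zero).2 (hx hk))
  let pt : (Spec (CommRingCat.of x.asIdeal.ResidueField) : Scheme.{u}) := (⊥ : PrimeSpectrum x.asIdeal.ResidueField)
  refine ⟨l pt, ?_⟩
  rw [← Scheme.Hom.comp_apply, hl]
  exact PrimeSpectrum.ext (by
    change Ideal.comap (algebraMap A x.asIdeal.ResidueField) ⊥ = x.asIdeal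
    exact Ideal.ker_algebraMap_residueField _)

set_option maxHeartbeats 800000 in
/-- The flat algebra on which two lifts agree. -/
theorem exists_diag_data {F : Sp S} (π : F ⟶ (yon S).obj (Over.mk sA))
    {V V' R : Type u} [CommRing V] [CommRing V'] [CommRing R] [IsLocalRing R] [Algebra A V] [Algebra A V']
    [Algebra A R] (G : Finset A) (hGR : ∀ g ∈ G, algebraMap A R g = 0)
    (v : (yon S).obj (ob sA V) ⟶ F) (hv : v ≫ π = (yon S).map (obStr sA V))
    (v' : (yon S).obj (ob sA V') ⟶ F) (hve' : RepWith @Etale v') (hv' : v' ≫ π = (yon S).map (obStr sA V'))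
    (hfl : ∀ (q : Ideal V) [q.IsPrime], (∀ g ∈ G, algebraMap A V g ∈ q) → Module.Flat A (Localization.AtPrime q))
    (huniq : ∀ u u' : (yon S).obj (ob sA R) ⟶ F,
      u ≫ π = (yon S).map (obStr sA R) → u' ≫ π = (yon S).map (obStr sA R) → u = u')
    (mk : V ⊗[A] V' →ₐ[A] R) :
    ∃ (D : Type u) (_ : CommRing D) (_ : Algebra A D) (_ : Module.Flat A D) (φ : V ⊗[A] V' →ₐ[A] D) (ρ : D →ₐ[A] R),
      IsLocalHom ρ.toRingHom ∧ (∀ x, ρ (φ x) = mk x) ∧
        (yon S).map (obMap sA (φ.comp (Algebra.TensorProduct.includeLeft : V →ₐ[A] V ⊗[A] V'))) ≫ v =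
          (yon S).map (obMap sA (φ.comp (Algebra.TensorProduct.includeRight : V' →ₐ[A] V ⊗[A] V'))) ≫ v' := by
  let P := V ⊗[A] V'
  let s₁ := obMap sA (mk.comp (Algebra.TensorProduct.includeLeft : V →ₐ[A] P))
  let s₂ := obMap sA (mk.comp (Algebra.TensorProduct.includeRight : V' →ₐ[A] P))
  have hs : (yon S).map s₂ ≫ v' = (yon S).map s₁ ≫ v := huniq _ _
    (by rw [Category.assoc, hv', ← (yon S).map_comp, obMap_str])
    (by rw [Category.assoc, hv, ← (yon S).map_comp, obMap_str])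
  obtain ⟨γ, hγ⟩ := (yon S).map_surjective (hve'.1.fst v)
  have sqQ := hve'.1.isPullback v
  have : Etale (hve'.1.snd v).left := hve'.2 v _ _ sqQ
  let s := hve'.1.lift (g := v) ((yon S).map s₂) s₁ hs
  have hsnd : s ≫ hve'.1.snd v = s₁ := hve'.1.lift_snd (g := v) _ _ hs
  have hfst : s ≫ γ = s₂ := (yon S).map_injective (by
    rw [(yon S).map_comp, hγ]; exact hve'.1.lift_fst (g := v) _ _ hs)
  let Qs := hve'.1.pullback v
  obtain ⟨_, ⟨O, hO, rfl⟩, hrO, -⟩ := Qs.left.isBasis_affineOpens.exists_subset_of_mem_open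
    (Set.mem_univ (s.left (IsLocalRing.closedPoint R))) isOpen_univ
  have hrg : Set.range s.left ⊆ Set.range hO.fromSpec := by
    rw [hO.range_fromSpec]
    rintro _ ⟨x, rfl⟩
    exact ((IsLocalRing.specializes_closedPoint (R := R) x).map s.left.continuous).mem_open O.2 hrO
  let s' := IsOpenImmersion.lift hO.fromSpec s.left hrg
  have hs' : s' ≫ hO.fromSpec = s.left := IsOpenImmersion.lift_fac _ _ _
  let ρ₀ : Γ(Qs.left, O) →+* R := (Spec.preimage s').hom
  have hρ₀ : Spec.map (CommRingCat.ofHom ρ₀) = s' := Spec.map_preimage _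
  let ψ₁ : V →+* Γ(Qs.left, O) := (Spec.preimage (hO.fromSpec ≫ (hve'.1.snd v).left)).hom
  let ψ₂ : V' →+* Γ(Qs.left, O) := (Spec.preimage (hO.fromSpec ≫ γ.left)).hom
  have hψ₁ : Spec.map (CommRingCat.ofHom ψ₁) = hO.fromSpec ≫ (hve'.1.snd v).left := Spec.map_preimage _
  have hψ₂ : Spec.map (CommRingCat.ofHom ψ₂) = hO.fromSpec ≫ γ.left := Spec.map_preimage _
  letI : Algebra A Γ(Qs.left, O) := (ψ₁.comp (algebraMap A V)).toAlgebra
  have hA₂ : ψ₂.comp (algebraMap A V') = algebraMap A Γ(Qs.left, O) := by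
    have h1 : (yon S).map (γ ≫ obStr sA V') = (yon S).map (hve'.1.snd v ≫ obStr sA V) := by
      rw [(yon S).map_comp, (yon S).map_comp, ← hv', ← hv, hγ, ← Category.assoc, ← Category.assoc, sqQ.w]
    have h2 : γ.left ≫ Spec.map (CommRingCat.ofHom (algebraMap A V')) =
        (hve'.1.snd v).left ≫ Spec.map (CommRingCat.ofHom (algebraMap A V)) :=
      congrArg CommaMorphism.left ((yon S).map_injective h1)
    have h3 : Spec.map (CommRingCat.ofHom (ψ₂.comp (algebraMap A V'))) =
        Spec.map (CommRingCat.ofHom (ψ₁.comp (algebraMap A V))) := by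
      rw [CommRingCat.ofHom_comp, CommRingCat.ofHom_comp, Spec.map_comp, Spec.map_comp, hψ₁, hψ₂,
        Category.assoc, Category.assoc, h2]
    exact congrArg CommRingCat.Hom.hom (Spec.map_injective h3)
  let ψ₁A : V →ₐ[A] Γ(Qs.left, O) := ⟨ψ₁, fun _ => rfl⟩
  let ψ₂A : V' →ₐ[A] Γ(Qs.left, O) := ⟨ψ₂, fun r => RingHom.congr_fun hA₂ r⟩
  have hρ₁ : ∀ x : V, ρ₀ (ψ₁ x) = mk (x ⊗ₜ[A] (1 : V')) := by
    have h1 : Spec.map (CommRingCat.ofHom (ρ₀.comp ψ₁)) = s₁.left := by
      rw [CommRingCat.ofHom_comp, Spec.map_comp, hρ₀, hψ₁, ← Category.assoc, hs']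
      exact congrArg CommaMorphism.left hsnd
    exact fun x => RingHom.congr_fun (congrArg CommRingCat.Hom.hom (Spec.map_injective h1)) x
  have hρ₂ : ∀ x : V', ρ₀ (ψ₂ x) = mk ((1 : V) ⊗ₜ[A] x) := by
    have h1 : Spec.map (CommRingCat.ofHom (ρ₀.comp ψ₂)) = s₂.left := by
      rw [CommRingCat.ofHom_comp, Spec.map_comp, hρ₀, hψ₂, ← Category.assoc, hs']
      exact congrArg CommaMorphism.left hfst
    exact fun x => RingHom.congr_fun (congrArg CommRingCat.Hom.hom (Spec.map_injective h1)) x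
  let ρA : Γ(Qs.left, O) →ₐ[A] R := ⟨ρ₀, fun r => by
    show ρ₀ (ψ₁ (algebraMap A V r)) = _
    rw [hρ₁]
    exact (mk.comp (Algebra.TensorProduct.includeLeft : V →ₐ[A] P)).commutes r⟩
  let Qp : Ideal Γ(Qs.left, O) := (IsLocalRing.maximalIdeal R).comap ρ₀
  have hu : ∀ x, x ∉ Qp → IsUnit (ρA x) := fun x hx => IsLocalRing.notMem_maximalIdeal.1 hx
  obtain ⟨ρ, hρ⟩ := exists_atPrime_lift Qp ρA hu
  -- flatness
  letI : Algebra V Γ(Qs.left, O) := ψ₁.toAlgebra
  haveI : IsScalarTower A V Γ(Qs.left, O) := IsScalarTower.of_algebraMap_eq fun _ => rfl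
  have hetale : Etale (Spec.map (CommRingCat.ofHom ψ₁)) := by rw [hψ₁]; infer_instance
  haveI : Algebra.Etale V Γ(Qs.left, O) :=
    RingHom.etale_algebraMap.1 ((HasRingHomProperty.Spec_iff (P := @Etale)).1 hetale)
  haveI : Module.Flat V (Localization.AtPrime Qp) := Module.Flat.trans V Γ(Qs.left, O) _
  let q := Qp.comap ψ₁
  have hqJ : ∀ g ∈ G, algebraMap A V g ∈ q := fun g hg => by
    show ρA (algebraMap A Γ(Qs.left, O) g) ∈ IsLocalRing.maximalIdeal R
    rw [ρA.commutes, show algebraMap A R g = 0 from hGR g hg]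
    exact zero_mem _
  haveI := hfl q hqJ
  obtain ⟨β, hβ⟩ := exists_atPrime_lift q ((IsScalarTower.toAlgHom A Γ(Qs.left, O) (Localization.AtPrime Qp)).comp ψ₁A)
    fun x hx => IsLocalization.map_units (Localization.AtPrime Qp) (⟨ψ₁ x, hx⟩ : Qp.primeCompl)
  letI : Algebra (Localization.AtPrime q) (Localization.AtPrime Qp) := β.toRingHom.toAlgebra
  haveI : IsScalarTower V (Localization.AtPrime q) (Localization.AtPrime Qp) :=
    IsScalarTower.of_algebraMap_eq fun x =>
      (IsScalarTower.algebraMap_apply V Γ(Qs.left, O) (Localization.AtPrime Qp) x).trans (AlgHom.congr_fun hβ x).symm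
  haveI : IsScalarTower A (Localization.AtPrime q) (Localization.AtPrime Qp) :=
    IsScalarTower.of_algebraMap_eq fun r => (β.commutes r).symm
  haveI : Module.Flat (Localization.AtPrime q) (Localization.AtPrime Qp) :=
    (Module.flat_iff_of_isLocalization (Localization.AtPrime q) q.primeCompl _).2 inferInstance
  have hflatD : Module.Flat A (Localization.AtPrime Qp) := Module.Flat.trans A (Localization.AtPrime q) _
  let cQ : Γ(Qs.left, O) →ₐ[A] Localization.AtPrime Qp := IsScalarTower.toAlgHom A _ _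
  let φ₀ : P →ₐ[A] Γ(Qs.left, O) := Algebra.TensorProduct.lift ψ₁A ψ₂A (fun _ _ => Commute.all _ _)
  have hφ₀ : ∀ x, ρA (φ₀ x) = mk x := fun x => by
    refine AlgHom.congr_fun (φ₁ := ρA.comp φ₀) (φ₂ := mk) (Algebra.TensorProduct.ext' fun a b => ?_) x
    show ρA (φ₀ (a ⊗ₜ[A] b)) = mk (a ⊗ₜ[A] b)
    rw [Algebra.TensorProduct.lift_tmul, map_mul, show ρA (ψ₁A a) = _ from hρ₁ a,
      show ρA (ψ₂A b) = _ from hρ₂ b, ← map_mul]
    simp
  refine ⟨Localization.AtPrime Qp, inferInstance, inferInstance, hflatD, cQ.comp φ₀, ρ, ⟨fun d hd => ?_⟩,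
    fun x => (AlgHom.congr_fun hρ (φ₀ x)).trans (hφ₀ x), ?_⟩
  · obtain ⟨⟨n, t⟩, hnt⟩ := IsLocalization.surj Qp.primeCompl d
    have hn : n ∉ Qp := by
      intro hn
      have h1 : IsUnit (ρA n) := by
        rw [show ρA n = ρ (algebraMap _ _ n) from (AlgHom.congr_fun hρ n).symm, ← hnt, map_mul]
        exact hd.mul ((IsLocalization.map_units (Localization.AtPrime Qp) t).map ρ)
      exact IsLocalRing.notMem_maximalIdeal.2 h1 hn
    exact isUnit_of_mul_isUnit_left (hnt ▸ IsLocalization.map_units (Localization.AtPrime Qp) (⟨n, hn⟩ : Qp.primeCompl))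
  · let eQ : ob sA Γ(Qs.left, O) ⟶ Qs := Over.homMk hO.fromSpec (by
      change hO.fromSpec ≫ Qs.hom = Spec.map (CommRingCat.ofHom (ψ₁.comp (algebraMap A V))) ≫ sA
      rw [CommRingCat.ofHom_comp, Spec.map_comp, hψ₁, ← Over.w (hve'.1.snd v)]
      simp [Qs])
    have he₁ : eQ ≫ hve'.1.snd v = obMap sA ψ₁A := Over.OverMorphism.ext hψ₁.symm
    have he₂ : eQ ≫ γ = obMap sA ψ₂A := Over.OverMorphism.ext hψ₂.symm
    have hQ : (yon S).map (obMap sA ψ₁A) ≫ v = (yon S).map (obMap sA ψ₂A) ≫ v' := by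
      rw [← he₁, ← he₂, (yon S).map_comp, (yon S).map_comp, Category.assoc, Category.assoc, hγ, sqQ.w]
    have e₁ : (cQ.comp φ₀).comp (Algebra.TensorProduct.includeLeft : V →ₐ[A] P) = cQ.comp ψ₁A :=
      AlgHom.ext fun x => by
        show cQ (φ₀ (x ⊗ₜ[A] (1 : V'))) = cQ (ψ₁A x)
        rw [Algebra.TensorProduct.lift_tmul, map_one ψ₂A, mul_one]
    have e₂ : (cQ.comp φ₀).comp (Algebra.TensorProduct.includeRight : V' →ₐ[A] P) = cQ.comp ψ₂A :=
      AlgHom.ext fun x => by
        show cQ (φ₀ ((1 : V) ⊗ₜ[A] x)) = cQ (ψ₂A x)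
        rw [Algebra.TensorProduct.lift_tmul, map_one ψ₁A, one_mul]
    rw [e₁, e₂, obMap_comp, obMap_comp, (yon S).map_comp, (yon S).map_comp, Category.assoc, Category.assoc, hQ]

set_option maxHeartbeats 800000 in
/-- Over the universal ring, the two lifts give the same point of the separated target. -/
theorem agree_univ {X Y U X₁ X₂ A₁U A₁Y : Space S} {Z FZ : Sp S} (f : Y.obj ⟶ X.obj) {i : Z ⟶ X.obj}
    (hi : RepWith @IsClosedImmersion i) (hifp : LocP @LocallyOfFinitePresentation i)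
    {iY : FZ ⟶ Y.obj} {fZ : FZ ⟶ Z} (hFZ : IsPullback iY fZ f i) [IsIso fZ]
    (hflat : ∀ y, Points.map f y ∈ Set.range (Points.map i) → IsFlatAtMor f y)
    {j : U.obj ⟶ X.obj} (hj : RepWith @IsOpenImmersion j)
    (hU : Set.range (Points.map j) = (Set.range (Points.map i))ᶜ)
    {p₁ : X₁.obj ⟶ X.obj} {p₂ : X₂.obj ⟶ X.obj} (hp₂ : IsSeparatedMor p₂)
    {a₁U : A₁U.obj ⟶ X₁.obj} {r₁U : A₁U.obj ⟶ U.obj} (h₁U : IsPullback a₁U r₁U p₁ j)
    {a₁Y : A₁Y.obj ⟶ X₁.obj} {r₁Y : A₁Y.obj ⟶ Y.obj} (h₁Y : IsPullback a₁Y r₁Y p₁ f)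
    (BU : A₁U.obj ⟶ X₂.obj) (BY : A₁Y.obj ⟶ X₂.obj) (hBY : BY ≫ p₂ = r₁Y ≫ f)
    (hUY : ∀ (T : Over S) (w₁ : (yon S).obj T ⟶ A₁U.obj) (w₂ : (yon S).obj T ⟶ A₁Y.obj),
      w₁ ≫ a₁U = w₂ ≫ a₁Y → w₁ ≫ BU = w₂ ≫ BY)
    (c : (yon S).obj (Over.mk sA) ⟶ X.obj) (hc : RepWith @Etale c)
    {B V V' : Type u} [CommRing B] [CommRing V] [CommRing V'] [Algebra A B] [Algebra A V] [Algebra A V']
    (b : (yon S).obj (ob sA B) ⟶ X₁.obj) (hb : b ≫ p₁ = (yon S).map (obStr sA B) ≫ c)
    (v : (yon S).obj (ob sA V) ⟶ pullback f c) (hve : RepWith @Etale v)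
    (hv : v ≫ pullback.snd f c = (yon S).map (obStr sA V))
    (v' : (yon S).obj (ob sA V') ⟶ pullback f c) (hve' : RepWith @Etale v')
    (hv' : v' ≫ pullback.snd f c = (yon S).map (obStr sA V'))
    (w w' : (yon S).obj (ob sA (B ⊗[A] (V ⊗[A] V'))) ⟶ A₁Y.obj)
    (hw : w ≫ a₁Y = (yon S).map (obMap sA (Algebra.TensorProduct.includeLeft : B →ₐ[A] B ⊗[A] (V ⊗[A] V'))) ≫ b)
    (hw₂ : w ≫ r₁Y = (yon S).map (obMap sA ((Algebra.TensorProduct.includeRight : V ⊗[A] V' →ₐ[A] B ⊗[A] (V ⊗[A] V')).comp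
      (Algebra.TensorProduct.includeLeft : V →ₐ[A] V ⊗[A] V'))) ≫ v ≫ pullback.fst f c)
    (hw' : w' ≫ a₁Y = (yon S).map (obMap sA (Algebra.TensorProduct.includeLeft : B →ₐ[A] B ⊗[A] (V ⊗[A] V'))) ≫ b)
    (hw₂' : w' ≫ r₁Y = (yon S).map (obMap sA ((Algebra.TensorProduct.includeRight : V ⊗[A] V' →ₐ[A] B ⊗[A] (V ⊗[A] V')).comp
      (Algebra.TensorProduct.includeRight : V' →ₐ[A] V ⊗[A] V'))) ≫ v' ≫ pullback.fst f c) :
    w ≫ BY = w' ≫ BY := by
  -- the closed subscheme
  have sqi := hi.1.isPullback c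
  let e := (hi.1.snd c).left
  have : IsClosedImmersion e := hi.2 c _ _ sqi
  have he_lfp : LocallyOfFinitePresentation e :=
    hifp (hi.1.fst c) c (hi.1.snd c) (repWith_of_isPullback sqi.flip hc) hc sqi.w
  obtain ⟨J, hJfg, hJ⟩ := exists_ideal_of_closed e
  obtain ⟨G, hG⟩ := hJfg he_lfp
  replace hG : Ideal.span (G : Set A) = J := hG
  have hpt : ∀ q : PrimeSpectrum A,
      Points.ofPt c (q : (Over.mk sA).left) ∈ Set.range (Points.map i) ↔ J ≤ q.asIdeal := by
    intro q
    constructor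
    · rintro ⟨p, hp⟩
      obtain ⟨x, -, hx⟩ := exists_pt_of_isPullback sqi hp
      rw [← hx]
      exact le_of_mem_range e J hJ x
    · intro hq
      obtain ⟨x, hx⟩ := mem_range_of_le e J hJ q hq
      exact ⟨_, (ofPt_sq sqi.w x).trans (congrArg (Points.ofPt c) hx)⟩
  have huniq : ∀ (R : Type u) [CommRing R] [Algebra A R], J ≤ RingHom.ker (algebraMap A R) →
      ∀ u u' : (yon S).obj (ob sA R) ⟶ pullback f c,
        u ≫ pullback.snd f c = (yon S).map (obStr sA R) → u' ≫ pullback.snd f c = (yon S).map (obStr sA R) →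
          u = u' := by
    intro R _ _ hR u u' h h'
    obtain ⟨l, hl⟩ := (hJ R (algebraMap A R)).2 hR
    let L : ob sA R ⟶ hi.1.pullback c := Over.homMk l (by
      rw [← Over.w (hi.1.snd c), ← Category.assoc]
      exact congrArg (· ≫ sA) hl)
    have hL : L ≫ hi.1.snd c = obStr sA R := Over.OverMorphism.ext hl
    have key : ∀ y : (yon S).obj (ob sA R) ⟶ pullback f c, y ≫ pullback.snd f c = (yon S).map (obStr sA R) →
        (y ≫ pullback.fst f c) ≫ f = ((yon S).map L ≫ hi.1.fst c) ≫ i := fun y hy => by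
      rw [Category.assoc, pullback.condition, reassoc_of% hy, Category.assoc, sqi.w, ← Category.assoc,
        ← (yon S).map_comp, hL]
    apply pullback.hom_ext
    · rw [← hFZ.lift_fst _ _ (key u h), ← hFZ.lift_fst _ _ (key u' h')]
      congr 1
      rw [← cancel_mono fZ, hFZ.lift_snd, hFZ.lift_snd]
    · rw [h, h']
  -- flatness
  have hfl : ∀ {W : Type u} [CommRing W] [Algebra A W] (y : (yon S).obj (ob sA W) ⟶ pullback f c),
      RepWith @Etale y → y ≫ pullback.snd f c = (yon S).map (obStr sA W) →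
      ∀ (q : Ideal W) [q.IsPrime], (∀ g ∈ G, algebraMap A W g ∈ q) → Module.Flat A (Localization.AtPrime q) := by
    intro W _ _ y hye hy q _ hq
    have hae : RepWith @Etale (y ≫ pullback.fst f c) :=
      repWith_comp hye (repWith_of_isPullback (IsPullback.of_hasPullback f c).flip hc)
    have haf : (y ≫ pullback.fst f c) ≫ f = (yon S).map (obStr sA W) ≫ c := by
      rw [Category.assoc, pullback.condition, ← Category.assoc, hy]
    let pt : (ob sA W).left := (⟨q, inferInstance⟩ : PrimeSpectrum W)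
    have hy' : Points.map f (Points.ofPt (y ≫ pullback.fst f c) pt) ∈ Set.range (Points.map i) := by
      rw [Points.map_ofPt, haf, ofPt_map_comp]
      refine (hpt ((obStr sA W).left pt)).2 ?_
      rw [← hG, Ideal.span_le]
      exact fun g hg => hq g hg
    have h1 := (FlatAt.isFlatAtMor_iff hae hc haf pt).1 (hflat _ hy')
    have h2 : (Localization.localRingHom (q.comap (algebraMap A W)) q (algebraMap A W) rfl).Flat :=
      (RingHom.Flat.respectsIso.arrow_mk_iso_iff
        (Scheme.arrowStalkMapSpecIso (CommRingCat.ofHom (algebraMap A W)) pt)).1 h1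
    have h3 := (RingHom.flat_algebraMap_iff.2 (inferInstance :
      Module.Flat A (Localization.AtPrime (q.comap (algebraMap A W))))).comp h2
    rw [show (Localization.localRingHom (q.comap (algebraMap A W)) q (algebraMap A W) rfl).comp
        (algebraMap A (Localization.AtPrime (q.comap (algebraMap A W)))) = algebraMap A (Localization.AtPrime q) from
      RingHom.ext fun r => (Localization.localRingHom_to_map _ q (algebraMap A W) rfl r).trans
        (IsScalarTower.algebraMap_apply A W (Localization.AtPrime q) r).symm] at h3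
    exact RingHom.flat_algebraMap_iff.1 h3
  -- the equalizer
  let T₀ := B ⊗[A] (V ⊗[A] V')
  have hwp : (w ≫ BY) ≫ p₂ = (w' ≫ BY) ≫ p₂ := by
    rw [Category.assoc, Category.assoc, hBY, ← h₁Y.w, reassoc_of% hw, reassoc_of% hw']
  let m : (yon S).obj (ob sA T₀) ⟶ pullback p₂ p₂ := pullback.lift (w ≫ BY) (w' ≫ BY) hwp
  have hm₁ : m ≫ pullback.fst p₂ p₂ = w ≫ BY := pullback.lift_fst _ _ _
  have hm₂ : m ≫ pullback.snd p₂ p₂ = w' ≫ BY := pullback.lift_snd _ _ _
  have hd : RepWith @IsClosedImmersion (pullback.diagonal p₂) := hp₂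
  have sqd := hd.1.isPullback m
  let d := (hd.1.snd m).left
  have : IsClosedImmersion d := hd.2 m _ _ sqd
  obtain ⟨I, -, hI⟩ := exists_ideal_of_closed d
  have hIeq : ∀ (R : Type u) [CommRing R] [Algebra A R] (χ : T₀ →ₐ[A] R),
      (yon S).map (obMap sA χ) ≫ w ≫ BY = (yon S).map (obMap sA χ) ≫ w' ≫ BY →
        I ≤ RingHom.ker χ.toRingHom := by
    intro R _ _ χ h
    have hlift : ((yon S).map (obMap sA χ) ≫ w ≫ BY) ≫ pullback.diagonal p₂ = (yon S).map (obMap sA χ) ≫ m := by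
      apply pullback.hom_ext
      · rw [Category.assoc, pullback.diagonal_fst, Category.comp_id, Category.assoc, hm₁]
      · rw [Category.assoc, pullback.diagonal_snd, Category.comp_id, Category.assoc, hm₂]
        exact h
    exact (hI R χ.toRingHom).1 ⟨(hd.1.lift (g := m) _ (obMap sA χ) hlift).left,
      congrArg CommaMorphism.left (hd.1.lift_snd (g := m) _ (obMap sA χ) hlift)⟩
  suffices hbot : I = ⊥ by
    obtain ⟨l, hl⟩ := (hI T₀ (RingHom.id _)).2 (by rw [hbot]; exact bot_le)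
    let L : ob sA T₀ ⟶ hd.1.pullback m := Over.homMk l (by
      rw [← Over.w (hd.1.snd m), ← Category.assoc]
      refine Eq.trans (congrArg (· ≫ (ob sA T₀).hom) hl) ?_
      rw [CommRingCat.ofHom_id, Spec.map_id]
      exact Category.id_comp _)
    have hL : L ≫ hd.1.snd m = 𝟙 _ := Over.OverMorphism.ext
      (hl.trans (by rw [CommRingCat.ofHom_id, Spec.map_id]; rfl))
    have h : m = ((yon S).map L ≫ hd.1.fst m) ≫ pullback.diagonal p₂ := by
      rw [Category.assoc, sqd.w, ← Category.assoc, ← (yon S).map_comp, hL, (yon S).map_id, Category.id_comp]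
    have h1 := h =≫ pullback.fst p₂ p₂
    have h2 := h =≫ pullback.snd p₂ p₂
    rw [hm₁, Category.assoc, pullback.diagonal_fst, Category.comp_id] at h1
    rw [hm₂, Category.assoc, pullback.diagonal_snd, Category.comp_id] at h2
    rw [h1, h2]
  refine ideal_eq_bot G I ?_ (fun q _ hq => hfl v hve hv q hq) (fun q _ hq => hfl v' hve' hv' q hq) ?_
  · -- on the open complement
    intro g hg
    let R := Localization.Away (algebraMap A T₀ g)
    let χ : T₀ →ₐ[A] R := IsScalarTower.toAlgHom A T₀ R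
    have hrange : Set.range (Points.map ((yon S).map (obStr sA R) ≫ c)) ⊆ Set.range (Points.map j) := by
      rintro _ ⟨P, rfl⟩
      obtain ⟨s, rfl⟩ := (Points.schemeEquiv (ob sA R)).surjective P
      rw [hU]
      intro hm
      have e₁ : Points.map ((yon S).map (obStr sA R) ≫ c) (Points.ofScheme (ob sA R) s) =
          Points.ofPt c ((obStr sA R).left s) :=
        (Points.ofPt_eq_map_ofScheme _ s).symm.trans (ofPt_map_comp _ _ _)
      have hs := (hpt ((obStr sA R).left s)).1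
        (e₁ ▸ hm : Points.ofPt c ((obStr sA R).left s) ∈ Set.range (Points.map i))
      have hgs : algebraMap A R g ∈ (s : PrimeSpectrum R).asIdeal := hs (hG ▸ Ideal.subset_span hg)
      have hgu : IsUnit (algebraMap A R g) := by
        rw [IsScalarTower.algebraMap_apply A T₀ R]
        exact IsLocalization.Away.algebraMap_isUnit (algebraMap A T₀ g)
      exact (s : PrimeSpectrum R).isPrime.ne_top (Ideal.eq_top_of_isUnit_mem _ hgs hgu)
    obtain ⟨uR, huR⟩ := exists_factor_of_range hj _ hrange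
    let χB : B →ₐ[A] R := χ.comp (Algebra.TensorProduct.includeLeft : B →ₐ[A] T₀)
    let wU := h₁U.lift ((yon S).map (obMap sA χB) ≫ b) uR (by
      rw [Category.assoc, hb, huR, ← Category.assoc, ← (yon S).map_comp, obMap_str])
    have hcomp : ∀ z : (yon S).obj (ob sA T₀) ⟶ A₁Y.obj,
        z ≫ a₁Y = (yon S).map (obMap sA (Algebra.TensorProduct.includeLeft : B →ₐ[A] T₀)) ≫ b →
          wU ≫ BU = ((yon S).map (obMap sA χ) ≫ z) ≫ BY := fun z hz => hUY _ _ _ (by
      rw [h₁U.lift_fst, Category.assoc, hz, obMap_comp, (yon S).map_comp, Category.assoc])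
    refine hIeq R χ ?_
    rw [← Category.assoc, ← Category.assoc]
    exact (hcomp w hw).symm.trans (hcomp w' hw')
  · -- along the diagonal
    intro p _ hp
    let P := V ⊗[A] V'
    let R := Localization.AtPrime p ⧸ (Ideal.span (G : Set A)).map (algebraMap A (Localization.AtPrime p))
    let mk : P →ₐ[A] R := (Ideal.Quotient.mkₐ A _).comp (IsScalarTower.toAlgHom A P (Localization.AtPrime p))
    have hJR : J ≤ RingHom.ker (algebraMap A R) := fun k hk => by
      show algebraMap A R k = 0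
      rw [IsScalarTower.algebraMap_apply A (Localization.AtPrime p) R]
      exact Ideal.Quotient.eq_zero_iff_mem.2 (Ideal.mem_map_of_mem _ (hG.symm ▸ hk))
    have hmax : (Ideal.span (G : Set A)).map (algebraMap A (Localization.AtPrime p)) ≤
        IsLocalRing.maximalIdeal (Localization.AtPrime p) := by
      rw [Ideal.map_le_iff_le_comap, Ideal.span_le]
      intro g hg
      rw [SetLike.mem_coe, Ideal.mem_comap, IsScalarTower.algebraMap_apply A P (Localization.AtPrime p)]
      exact (IsLocalization.AtPrime.to_map_mem_maximal_iff (Localization.AtPrime p) p _).2 (hp g hg)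
    haveI : Nontrivial R := Ideal.Quotient.nontrivial_iff.2 fun h =>
      (IsLocalRing.maximalIdeal.isMaximal _).ne_top (top_le_iff.1 (h ▸ hmax))
    haveI : IsLocalRing R := IsLocalRing.of_surjective' (Ideal.Quotient.mk _) Ideal.Quotient.mk_surjective
    obtain ⟨D, _, _, hflatD, φ, ρ, hρloc, hρ, hQ⟩ := exists_diag_data sA (pullback.snd f c) (R := R) G
      (fun g hg => hJR (hG ▸ Ideal.subset_span hg)) v hv v' hve' hv' (fun q _ hq => hfl v hve hv q hq)
      (huniq R hJR) mk
    refine ⟨D, inferInstance, inferInstance, hflatD, φ, ρ, hρloc, hρ, ?_⟩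
    let χ := Algebra.TensorProduct.map (AlgHom.id A B) φ
    let inD : D →ₐ[A] B ⊗[A] D := Algebra.TensorProduct.includeRight
    have hχ₁ : χ.comp ((Algebra.TensorProduct.includeRight : P →ₐ[A] T₀).comp
        (Algebra.TensorProduct.includeLeft : V →ₐ[A] P)) =
        inD.comp (φ.comp (Algebra.TensorProduct.includeLeft : V →ₐ[A] P)) := AlgHom.ext fun x => rfl
    have hχ₂ : χ.comp ((Algebra.TensorProduct.includeRight : P →ₐ[A] T₀).comp
        (Algebra.TensorProduct.includeRight : V' →ₐ[A] P)) =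
        inD.comp (φ.comp (Algebra.TensorProduct.includeRight : V' →ₐ[A] P)) := AlgHom.ext fun x => rfl
    refine hIeq _ χ ?_
    rw [← Category.assoc, ← Category.assoc]
    refine congrArg (· ≫ BY) (h₁Y.hom_ext ?_ ?_)
    · rw [Category.assoc, Category.assoc, hw, hw']
    · rw [Category.assoc, Category.assoc, hw₂, hw₂', ← Category.assoc, ← (yon S).map_comp, ← obMap_comp, hχ₁,
        ← Category.assoc ((yon S).map (obMap sA χ)), ← (yon S).map_comp, ← obMap_comp, hχ₂,
        obMap_comp sA (φ.comp (Algebra.TensorProduct.includeLeft : V →ₐ[A] P)) inD,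
        obMap_comp sA (φ.comp (Algebra.TensorProduct.includeRight : V' →ₐ[A] P)) inD, (yon S).map_comp, (yon S).map_comp, Category.assoc, Category.assoc, reassoc_of% hQ]

end Groth.Agent.GlueModif25
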