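import Mathlib.RingTheory.Flat.Basic
import Mathlib.LinearAlgebra.TensorProduct.RightExactness
import Mathlib.RingTheory.Ideal.Quotient.Operations
import Mathlib.RingTheory.Finiteness.Basic
import Mathlib.Tactic.Ring
import Mathlib.RingTheory.TensorProduct.Basic

/-!
# Torsion is detected on flat algebras retracting modulo the ideal
-/

universe u

open TensorProduct

namespace Groth.Agent.GlueModif25

variable {A P D : Type u} [CommRing A] [CommRing P] [CommRing D] [Algebra A P] [Algebra A D]
  [Module.Flat A P] [Module.Flat A D]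

theorem eq_zero_of_ext {M : Type u} [AddCommGroup M] [Module A M] (K : Submodule A M) (φ : P →ₗ[A] D)
    (hK : ∀ t : K ⊗[A] P, φ.lTensor K t = 0 → t = 0)
    (hQ : ∀ t : (M ⧸ K) ⊗[A] P, φ.lTensor (M ⧸ K) t = 0 → t = 0)
    (t : M ⊗[A] P) (ht : φ.lTensor M t = 0) : t = 0 := by
  have h1 : K.mkQ.rTensor P t = 0 := hQ _ (by
    rw [← LinearMap.comp_apply, LinearMap.lTensor_comp_rTensor, ← LinearMap.rTensor_comp_lTensor,
      LinearMap.comp_apply, ht, map_zero])
  obtain ⟨s, rfl⟩ :=
    (rTensor_exact P (LinearMap.exact_subtype_mkQ K) (Submodule.mkQ_surjective K) t).1 h1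
  have h2 : φ.lTensor K s = 0 := by
    refine Module.Flat.rTensor_preserves_injective_linearMap (M := D) K.subtype Subtype.val_injective ?_
    rw [map_zero, ← LinearMap.comp_apply, LinearMap.rTensor_comp_lTensor, ← LinearMap.lTensor_comp_rTensor,
      LinearMap.comp_apply, ht]
  rw [hK s h2, map_zero]

omit [Module.Flat A P] [Module.Flat A D] in
/-- The base case: modules killed by the ideal. -/
theorem eq_zero_of_killed (G : Finset A) {M : Type u} [AddCommGroup M] [Module A M]
    (φ : P →ₗ[A] D) (ρ : D →ₗ[A] P ⧸ (Ideal.span (G : Set A)).map (algebraMap A P))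
    (hρ : ∀ x, ρ (φ x) = Ideal.Quotient.mk _ x) (h : ∀ g ∈ G, ∀ m : M, g • m = 0)
    (t : M ⊗[A] P) (ht : φ.lTensor M t = 0) : t = 0 := by
  let J := (Ideal.span (G : Set A)).map (algebraMap A P)
  let mkJ : P →ₗ[A] P ⧸ J := (Ideal.Quotient.mkₐ A J).toLinearMap
  have hJ : ∀ x ∈ J, ∀ m : M, m ⊗ₜ[A] x = 0 := by
    intro x hx
    rw [show J = Ideal.span (algebraMap A P '' (G : Set A)) from Ideal.map_span _ _] at hx
    induction hx using Submodule.span_induction with
    | mem x hx =>
      obtain ⟨g, hg, rfl⟩ := hx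
      intro m
      rw [Algebra.algebraMap_eq_smul_one, ← TensorProduct.smul_tmul, h g hg m, TensorProduct.zero_tmul]
    | zero => exact fun m => TensorProduct.tmul_zero _ _
    | add x y _ _ hx hy => intro m; rw [TensorProduct.tmul_add, hx, hy, add_zero]
    | smul c x _ hx =>
      intro m
      have := congrArg ((LinearMap.mulLeft A c).lTensor M) (hx m)
      simpa using this
  let back : M ⊗[A] (P ⧸ J) →ₗ[A] M ⊗[A] P := TensorProduct.lift
    { toFun := fun m => Submodule.liftQ (J.restrictScalars A) (TensorProduct.mk A M P m)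
        (fun x hx => hJ x hx m) ∘ₗ (Submodule.Quotient.restrictScalarsEquiv A J).symm.toLinearMap
      map_add' := fun m m' => by
        ext y
        obtain ⟨x, rfl⟩ := Ideal.Quotient.mk_surjective y
        exact TensorProduct.add_tmul m m' x
      map_smul' := fun a m => by
        ext y
        obtain ⟨x, rfl⟩ := Ideal.Quotient.mk_surjective y
        exact (TensorProduct.smul_tmul' a m x).symm }
  have hb : ∀ s : M ⊗[A] P, back (mkJ.lTensor M s) = s := by
    intro s
    induction s using TensorProduct.induction_on with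
    | zero => simp
    | tmul m x => rfl
    | add x y hx hy => rw [map_add, map_add, hx, hy]
  have hmk : mkJ = ρ ∘ₗ φ := LinearMap.ext fun x => (hρ x).symm
  rw [← hb t, hmk, LinearMap.lTensor_comp, LinearMap.comp_apply, ht, map_zero, map_zero]

/-- Injectivity on modules killed by powers of the generators. -/
theorem eq_zero_of_powers (G : Finset A) (φ : P →ₗ[A] D)
    (ρ : D →ₗ[A] P ⧸ (Ideal.span (G : Set A)).map (algebraMap A P))
    (hρ : ∀ x, ρ (φ x) = Ideal.Quotient.mk _ x) (F : Finset A) :
    ∀ (M : Type u) [AddCommGroup M] [Module A M],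
      (∀ g ∈ G, g ∈ F ∨ ∀ m : M, g • m = 0) → (∀ g ∈ F, ∃ n : ℕ, ∀ m : M, g ^ n • m = 0) →
      ∀ t : M ⊗[A] P, φ.lTensor M t = 0 → t = 0 := by
  classical
  induction F using Finset.induction_on with
  | empty =>
    intro M _ _ h1 _ t ht
    exact eq_zero_of_killed G φ ρ hρ (fun g hg => (h1 g hg).resolve_left (by simp)) t ht
  | @insert g F hgF ih =>
    suffices H : ∀ n : ℕ, ∀ (M : Type u) [AddCommGroup M] [Module A M],
        (∀ m : M, g ^ n • m = 0) → (∀ g' ∈ G, g' ∈ insert g F ∨ ∀ m : M, g' • m = 0) →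
        (∀ g' ∈ F, ∃ k : ℕ, ∀ m : M, g' ^ k • m = 0) → ∀ t : M ⊗[A] P, φ.lTensor M t = 0 → t = 0 by
      intro M _ _ h1 h2
      obtain ⟨n, hn⟩ := h2 g (Finset.mem_insert_self _ _)
      exact H n M hn h1 fun g' hg' => h2 g' (Finset.mem_insert_of_mem hg')
    intro n
    induction n with
    | zero =>
      intro M _ _ h0 _ _ t _
      have : Subsingleton M := ⟨fun a b => by
        have ha := h0 a
        have hb := h0 b
        rw [pow_zero, one_smul] at ha hb
        rw [ha, hb]⟩
      exact Subsingleton.elim _ _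
    | succ n ihn =>
      intro M _ _ hn h1 h2
      let K : Submodule A M := LinearMap.range (LinearMap.lsmul A M g)
      refine eq_zero_of_ext K φ (ihn K (fun m => ?_) (fun g' hg' => ?_) fun g' hg' => ?_)
        (ih (M ⧸ K) (fun g' hg' => ?_) fun g' hg' => ?_)
      · obtain ⟨m, z, rfl⟩ := m
        exact Subtype.ext (show g ^ n • g • z = 0 by rw [smul_smul, ← pow_succ]; exact hn z)
      · exact (h1 g' hg').imp_right fun h m => Subtype.ext (h m.1)
      · obtain ⟨k, hk⟩ := h2 g' hg'
        exact ⟨k, fun m => Subtype.ext (hk m.1)⟩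
      · rcases h1 g' hg' with h | h
        · rcases Finset.mem_insert.1 h with rfl | h
          · refine Or.inr fun m => ?_
            obtain ⟨z, rfl⟩ := Submodule.Quotient.mk_surjective K m
            rw [← Submodule.Quotient.mk_smul, Submodule.Quotient.mk_eq_zero]
            exact ⟨z, rfl⟩
          · exact Or.inl h
        · refine Or.inr fun m => ?_
          obtain ⟨z, rfl⟩ := Submodule.Quotient.mk_surjective K m
          rw [← Submodule.Quotient.mk_smul, h z, Submodule.Quotient.mk_zero]
      · obtain ⟨k, hk⟩ := h2 g' hg'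
        refine ⟨k, fun m => ?_⟩
        obtain ⟨z, rfl⟩ := Submodule.Quotient.mk_surjective K m
        rw [← Submodule.Quotient.mk_smul, hk z, Submodule.Quotient.mk_zero]

/-- A torsion element vanishing on a flat algebra retracting modulo the ideal is zero. -/
theorem eq_zero_of_torsion (G : Finset A) (φ : P →ₗ[A] D)
    (ρ : D →ₗ[A] P ⧸ (Ideal.span (G : Set A)).map (algebraMap A P))
    (hρ : ∀ x, ρ (φ x) = Ideal.Quotient.mk _ x) {B : Type u} [AddCommGroup B] [Module A B] (t : B ⊗[A] P)
    (hG : ∀ g ∈ G, ∃ n : ℕ, g ^ n • t = 0) (ht : φ.lTensor B t = 0) : t = 0 := by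
  classical
  suffices H : ∀ F : Finset A, F ⊆ G → ∀ (M : Type u) [AddCommGroup M] [Module A M],
      (∀ g ∈ G, g ∉ F → ∃ n : ℕ, ∀ m : M, g ^ n • m = 0) → ∀ t : M ⊗[A] P,
        (∀ g ∈ F, ∃ n : ℕ, g ^ n • t = 0) → φ.lTensor M t = 0 → t = 0 from
    H G subset_rfl B (fun g hg hg' => absurd hg hg') t hG ht
  intro F
  induction F using Finset.induction_on with
  | empty =>
    intro _ M _ _ h t _ ht
    exact eq_zero_of_powers G φ ρ hρ G M (fun g hg => Or.inl hg) (fun g hg => h g hg (by simp)) t ht
  | @insert g F hgF ih =>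
    intro hF M _ _ h t h' ht
    obtain ⟨n, hn⟩ := h' g (Finset.mem_insert_self _ _)
    let K : Submodule A M := LinearMap.ker (LinearMap.lsmul A M (g ^ n))
    have hex := Module.Flat.rTensor_exact P
      (LinearMap.exact_subtype_ker_map (LinearMap.lsmul A M (g ^ n)))
    obtain ⟨s, rfl⟩ := (hex t).1 (by
      rw [show LinearMap.lsmul A M (g ^ n) = (g ^ n) • LinearMap.id from rfl, LinearMap.rTensor_smul,
        LinearMap.rTensor_id]
      exact hn)
    have hi := Module.Flat.rTensor_preserves_injective_linearMap (M := P) K.subtype Subtype.val_injective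
    have c1 : ∀ a ∈ G, a ∉ F → ∃ n : ℕ, ∀ m : K, a ^ n • m = 0 := fun a ha ha' => by
      by_cases hag : a = g
      · subst hag; exact ⟨n, fun m => Subtype.ext m.2⟩
      · obtain ⟨k, hk⟩ := h a ha (by simp [hag, ha'])
        exact ⟨k, fun m => Subtype.ext (hk m.1)⟩
    have c2 : ∀ a ∈ F, ∃ n : ℕ, a ^ n • s = 0 := fun a ha => by
      obtain ⟨k, hk⟩ := h' a (Finset.mem_insert_of_mem ha)
      exact ⟨k, hi (by rw [map_zero, map_smul]; exact hk)⟩
    have c3 : φ.lTensor K s = 0 := by
      refine Module.Flat.rTensor_preserves_injective_linearMap (M := D) K.subtype Subtype.val_injective ?_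
      rw [map_zero, ← LinearMap.comp_apply, LinearMap.rTensor_comp_lTensor, ← LinearMap.lTensor_comp_rTensor,
        LinearMap.comp_apply, ht]
    rw [ih (fun a ha => hF (Finset.mem_insert_of_mem ha)) K c1 s c2 c3, map_zero]

end Groth.Agent.GlueModif25
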