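import Groth.Agent.Lib.GlueModif25.Agree

/-!
# Glueing morphisms along a modification
-/

universe u

set_option backward.isDefEq.respectTransparency.types false

open CategoryTheory CategoryTheory.Limits AlgebraicGeometry TensorProduct
open AlgSp Groth.Agent.AlgSpace Groth.Agent.AlgSpDescent Groth.Agent.AlgSpDecent

namespace Groth.Agent.GlueModif25

variable {S : Scheme.{u}}

/-- Affine etale charts as spectra. -/
theorem exists_spec_charts {F : Sp S} (hF : IsAlgSpace F) :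
    ∃ (κ : Type u) (A : κ → Type u) (_ : ∀ k, CommRing (A k)) (sA : ∀ k, Spec (CommRingCat.of (A k)) ⟶ S)
      (c : ∀ k, (yon S).obj (Over.mk (sA k)) ⟶ F), (∀ k, RepWith @Etale (c k)) ∧
        ∀ z, ∃ k w, Points.map (c k) w = z := by
  obtain ⟨κ, T, q, hT, hq, hcov⟩ := exists_affine_cover hF
  have : ∀ k, IsAffine (T k).left := hT
  let i : ∀ k, Over.mk ((T k).left.isoSpec.inv ≫ (T k).hom) ≅ T k := fun k =>
    Over.isoMk (T k).left.isoSpec.symm rfl
  refine ⟨κ, fun k => Γ((T k).left, ⊤), inferInstance, fun k => (T k).left.isoSpec.inv ≫ (T k).hom,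
    fun k => (yon S).map (i k).hom ≫ q k, fun k => ?_, fun z => ?_⟩
  · have : IsIso (i k).hom.left := inferInstanceAs (IsIso ((Over.forget _).map (i k).hom))
    exact repWith_comp ((repWith_yon_map_iff @Etale _).2 (inferInstance : Etale (i k).hom.left)) (hq k)
  · obtain ⟨k, w, hw⟩ := hcov z
    refine ⟨k, Points.map ((yon S).map (i k).inv) w, ?_⟩
    rw [← hw, ← Function.comp_apply (f := Points.map ((yon S).map (i k).hom ≫ q k)), ← map_comp_eq,
      ← Category.assoc, ← (yon S).map_comp, Iso.inv_hom_id, (yon S).map_id, Category.id_comp]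

/-- Affine etale charts over an affine chart. -/
theorem exists_ob_charts {A : Type u} [CommRing A] (sA : Spec (CommRingCat.of A) ⟶ S) {F : Sp S}
    (hF : IsAlgSpace F) (π : F ⟶ (yon S).obj (Over.mk sA)) :
    ∃ (κ : Type u) (B : κ → Type u) (_ : ∀ k, CommRing (B k)) (_ : ∀ k, Algebra A (B k))
      (q : ∀ k, (yon S).obj (ob sA (B k)) ⟶ F), (∀ k, RepWith @Etale (q k)) ∧
        (∀ k, q k ≫ π = (yon S).map (obStr sA (B k))) ∧ ∀ z, ∃ k w, Points.map (q k) w = z := by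
  obtain ⟨κ, T, q, hT, hq, hcov⟩ := exists_affine_cover hF
  have : ∀ k, IsAffine (T k).left := hT
  choose t ht using fun k => (yon S).map_surjective (q k ≫ π)
  choose B hB₁ hB₂ i hi using fun k => exists_iso_ob sA (t k)
  refine ⟨κ, B, hB₁, hB₂, fun k => (yon S).map (i k).hom ≫ q k, fun k => ?_, fun k => ?_, fun z => ?_⟩
  · have : IsIso (i k).hom.left := inferInstanceAs (IsIso ((Over.forget _).map (i k).hom))
    exact repWith_comp ((repWith_yon_map_iff @Etale _).2 (inferInstance : Etale (i k).hom.left)) (hq k)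
  · rw [Category.assoc, ← ht k, ← (yon S).map_comp, hi k]
  · obtain ⟨k, w, hw⟩ := hcov z
    refine ⟨k, Points.map ((yon S).map (i k).inv) w, ?_⟩
    rw [← hw, ← Function.comp_apply (f := Points.map ((yon S).map (i k).hom ≫ q k)), ← map_comp_eq,
      ← Category.assoc, ← (yon S).map_comp, Iso.inv_hom_id, (yon S).map_id, Category.id_comp]

/-- Maps into the spectrum of a tensor product. -/
theorem exists_lift_tensor {A : Type u} [CommRing A] (sA : Spec (CommRingCat.of A) ⟶ S) {B C : Type u}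
    [CommRing B] [CommRing C] [Algebra A B] [Algebra A C] {T : Over S} (x₁ : T ⟶ ob sA B) (x₂ : T ⟶ ob sA C)
    (h : x₁ ≫ obStr sA B = x₂ ≫ obStr sA C) :
    ∃ u : T ⟶ ob sA (B ⊗[A] C), u ≫ obMap sA (Algebra.TensorProduct.includeLeft : B →ₐ[A] B ⊗[A] C) = x₁ ∧
      u ≫ obMap sA (Algebra.TensorProduct.includeRight : C →ₐ[A] B ⊗[A] C) = x₂ := by
  let h' : x₁.left ≫ Spec.map (CommRingCat.ofHom (algebraMap A B)) =
      x₂.left ≫ Spec.map (CommRingCat.ofHom (algebraMap A C)) := congrArg CommaMorphism.left h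
  let l := pullback.lift x₁.left x₂.left h' ≫ (pullbackSpecIso A B C).hom
  have h₁ : l ≫ Spec.map (CommRingCat.ofHom (Algebra.TensorProduct.includeLeft : B →ₐ[A] B ⊗[A] C).toRingHom) =
      x₁.left := by
    show (pullback.lift x₁.left x₂.left h' ≫ (pullbackSpecIso A B C).hom) ≫
      Spec.map (CommRingCat.ofHom Algebra.TensorProduct.includeLeftRingHom) = _
    rw [Category.assoc, ← pullbackSpecIso_inv_fst, Iso.hom_inv_id_assoc, pullback.lift_fst]
  have h₂ : l ≫ Spec.map (CommRingCat.ofHom (Algebra.TensorProduct.includeRight : C →ₐ[A] B ⊗[A] C).toRingHom) =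
      x₂.left := by
    show (pullback.lift x₁.left x₂.left h' ≫ (pullbackSpecIso A B C).hom) ≫ _ = _
    rw [Category.assoc]
    erw [← pullbackSpecIso_inv_snd]
    rw [Iso.hom_inv_id_assoc, pullback.lift_snd]
  refine ⟨Over.homMk l ?_, Over.OverMorphism.ext h₁, Over.OverMorphism.ext h₂⟩
  rw [← Over.w x₁, ← h₁, Category.assoc]
  exact congrArg (l ≫ ·) (Over.w (obMap sA (Algebra.TensorProduct.includeLeft : B →ₐ[A] B ⊗[A] C))).symm

variable {X Y U X₁ X₂ A₁U A₁Y : Space S} {Z FZ : Sp S} (f : Y.obj ⟶ X.obj) {i : Z ⟶ X.obj}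
  (hi : RepWith @IsClosedImmersion i) (hifp : LocP @LocallyOfFinitePresentation i)
  {iY : FZ ⟶ Y.obj} {fZ : FZ ⟶ Z} (hFZ : IsPullback iY fZ f i) [IsIso fZ]
  (hflat : ∀ y ∈ Set.range (Points.map iY), IsFlatAtMor f y)
  {j : U.obj ⟶ X.obj} (hj : RepWith @IsOpenImmersion j)
  (hU : Set.range (Points.map j) = (Set.range (Points.map i))ᶜ)
  {p₁ : X₁.obj ⟶ X.obj} {p₂ : X₂.obj ⟶ X.obj} (hp₂ : IsSeparatedMor p₂)
  {a₁U : A₁U.obj ⟶ X₁.obj} {r₁U : A₁U.obj ⟶ U.obj} (h₁U : IsPullback a₁U r₁U p₁ j)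
  {a₁Y : A₁Y.obj ⟶ X₁.obj} {r₁Y : A₁Y.obj ⟶ Y.obj} (h₁Y : IsPullback a₁Y r₁Y p₁ f)
  (BU : A₁U.obj ⟶ X₂.obj) (BY : A₁Y.obj ⟶ X₂.obj)
  (hUY : ∀ (T : Over S) (w₁ : (yon S).obj T ⟶ A₁U.obj) (w₂ : (yon S).obj T ⟶ A₁Y.obj),
    w₁ ≫ a₁U = w₂ ≫ a₁Y → w₁ ≫ BU = w₂ ≫ BY)

include hi hifp hFZ hflat hj hU hp₂ h₁U h₁Y hUY in
theorem agree_scheme (hBY : BY ≫ p₂ = r₁Y ≫ f) {T : Over S} (w w' : (yon S).obj T ⟶ A₁Y.obj)
    (h : w ≫ a₁Y = w' ≫ a₁Y) : w ≫ BY = w' ≫ BY := by
  have hflat' : ∀ y, Points.map f y ∈ Set.range (Points.map i) → IsFlatAtMor f y := by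
    rintro y ⟨z, hz⟩
    obtain ⟨v, hv, -⟩ := exists_point_lift hFZ y z hz.symm
    exact hflat y ⟨v, hv⟩
  obtain ⟨κ, A, _, sA, c, hc, hcov⟩ := exists_spec_charts X.property
  refine hom_ext_charts (fun k => Over.mk (sA k)) c hc hcov (w ≫ a₁Y ≫ p₁) fun k T₁ t₁ m₁ h₁ => ?_
  have hY' : IsAlgSpace (pullback f (c k)) :=
    isAlgSpace_pullback X.property Y.property (IsAlgSpace.yon_obj _) (IsPullback.of_hasPullback _ _)
  have hX' : IsAlgSpace (pullback p₁ (c k)) :=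
    isAlgSpace_pullback X.property X₁.property (IsAlgSpace.yon_obj _) (IsPullback.of_hasPullback _ _)
  obtain ⟨κ₁, B, _, _, qB, hqB, hqBs, hcovB⟩ := exists_ob_charts (sA k) hX' (pullback.snd p₁ (c k))
  obtain ⟨κ₂, V, _, _, qV, hqV, hqVs, hcovV⟩ := exists_ob_charts (sA k) hY' (pullback.snd f (c k))
  let x₁ : (yon S).obj T₁ ⟶ pullback p₁ (c k) :=
    pullback.lift ((yon S).map t₁ ≫ w ≫ a₁Y) ((yon S).map m₁) (by rw [h₁]; simp only [Category.assoc])
  refine hom_ext_charts _ qB hqB hcovB x₁ fun l T₂ t₂ m₂ h₂ => ?_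
  have e₂ := h₂ =≫ pullback.fst p₁ (c k)
  have f₂ := h₂ =≫ pullback.snd p₁ (c k)
  rw [Category.assoc, Category.assoc, pullback.lift_fst] at e₂
  rw [Category.assoc, Category.assoc, pullback.lift_snd, hqBs, ← (yon S).map_comp, ← (yon S).map_comp] at f₂
  let y₂ : (yon S).obj T₂ ⟶ pullback f (c k) :=
    pullback.lift ((yon S).map t₂ ≫ (yon S).map t₁ ≫ w ≫ r₁Y) ((yon S).map t₂ ≫ (yon S).map m₁) (by
      simp only [Category.assoc]
      rw [← h₁Y.w, h₁])
  refine hom_ext_charts _ qV hqV hcovV y₂ fun n T₃ t₃ m₃ h₃ => ?_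
  have e₃ := h₃ =≫ pullback.fst f (c k)
  have f₃ := h₃ =≫ pullback.snd f (c k)
  rw [Category.assoc, Category.assoc, pullback.lift_fst] at e₃
  rw [Category.assoc, Category.assoc, pullback.lift_snd, hqVs, ← (yon S).map_comp, ← (yon S).map_comp,
    ← (yon S).map_comp] at f₃
  let y₃ : (yon S).obj T₃ ⟶ pullback f (c k) :=
    pullback.lift ((yon S).map t₃ ≫ (yon S).map t₂ ≫ (yon S).map t₁ ≫ w' ≫ r₁Y)
      ((yon S).map t₃ ≫ (yon S).map t₂ ≫ (yon S).map m₁) (by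
      simp only [Category.assoc]
      rw [← h₁Y.w, h₁, reassoc_of% h])
  refine hom_ext_charts _ qV hqV hcovV y₃ fun n' T₄ t₄ m₄ h₄ => ?_
  have e₄ := h₄ =≫ pullback.fst f (c k)
  have f₄ := h₄ =≫ pullback.snd f (c k)
  rw [Category.assoc, Category.assoc, pullback.lift_fst] at e₄
  rw [Category.assoc, Category.assoc, pullback.lift_snd, hqVs, ← (yon S).map_comp, ← (yon S).map_comp,
    ← (yon S).map_comp, ← (yon S).map_comp] at f₄
  replace f₂ := (yon S).map_injective f₂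
  replace f₃ := (yon S).map_injective f₃
  replace f₄ := (yon S).map_injective f₄
  obtain ⟨uP, huP₁, huP₂⟩ := exists_lift_tensor (sA k) (t₄ ≫ m₃) m₄ (by rw [Category.assoc, f₃, f₄])
  obtain ⟨uT, huT₁, huT₂⟩ := exists_lift_tensor (sA k) (t₄ ≫ t₃ ≫ m₂) uP (by
    rw [Category.assoc, Category.assoc, f₂, ← obMap_str (sA k) (Algebra.TensorProduct.includeRight : V n' →ₐ[A k] V n ⊗[A k] V n'),
      ← Category.assoc uP, huP₂, f₄])
  have hbp : (qB l ≫ pullback.fst p₁ (c k)) ≫ p₁ = (yon S).map (obStr (sA k) (B l)) ≫ c k := by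
    rw [Category.assoc, pullback.condition, ← Category.assoc, hqBs]
  have hvf : ∀ n, (qV n ≫ pullback.fst f (c k)) ≫ f = (yon S).map (obStr (sA k) (V n)) ≫ c k := fun n => by
    rw [Category.assoc, pullback.condition, ← Category.assoc, hqVs]
  let ιB := obMap (sA k) (Algebra.TensorProduct.includeLeft : B l →ₐ[A k] B l ⊗[A k] (V n ⊗[A k] V n'))
  let ιP : V n ⊗[A k] V n' →ₐ[A k] B l ⊗[A k] (V n ⊗[A k] V n') := Algebra.TensorProduct.includeRight
  let ι₁ := obMap (sA k) (ιP.comp (Algebra.TensorProduct.includeLeft : V n →ₐ[A k] V n ⊗[A k] V n'))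
  let ι₂ := obMap (sA k) (ιP.comp (Algebra.TensorProduct.includeRight : V n' →ₐ[A k] V n ⊗[A k] V n'))
  let w₀ := h₁Y.lift ((yon S).map ιB ≫ qB l ≫ pullback.fst p₁ (c k)) ((yon S).map ι₁ ≫ qV n ≫ pullback.fst f (c k))
    (by
      rw [Category.assoc, hbp, Category.assoc, hvf, ← Category.assoc, ← Category.assoc, ← (yon S).map_comp,
        ← (yon S).map_comp, obMap_str, obMap_str])
  let w₀' := h₁Y.lift ((yon S).map ιB ≫ qB l ≫ pullback.fst p₁ (c k)) ((yon S).map ι₂ ≫ qV n' ≫ pullback.fst f (c k))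
    (by
      rw [Category.assoc, hbp, Category.assoc, hvf, ← Category.assoc, ← Category.assoc, ← (yon S).map_comp,
        ← (yon S).map_comp, obMap_str, obMap_str])
  have huB : uT ≫ ιB = t₄ ≫ t₃ ≫ m₂ := huT₁
  have hu₁ : uT ≫ ι₁ = t₄ ≫ m₃ := by
    show uT ≫ obMap (sA k) (ιP.comp _) = _
    rw [obMap_comp, ← Category.assoc, huT₂, huP₁]
  have hu₂ : uT ≫ ι₂ = m₄ := by
    show uT ≫ obMap (sA k) (ιP.comp _) = _
    rw [obMap_comp, ← Category.assoc, huT₂, huP₂]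
  have H := agree_univ (sA k) f hi hifp hFZ hflat' hj hU hp₂ h₁U h₁Y BU BY hBY hUY (c k) (hc k)
    (qB l ≫ pullback.fst p₁ (c k)) hbp (qV n) (hqV n) (hqVs n) (qV n') (hqV n') (hqVs n') w₀ w₀'
    (h₁Y.lift_fst _ _ _) (h₁Y.lift_snd _ _ _) (h₁Y.lift_fst _ _ _) (h₁Y.lift_snd _ _ _)
  have hw : (yon S).map t₄ ≫ (yon S).map t₃ ≫ (yon S).map t₂ ≫ (yon S).map t₁ ≫ w = (yon S).map uT ≫ w₀ := by
    apply h₁Y.hom_ext
    · simp only [Category.assoc, w₀, h₁Y.lift_fst]
      rw [← Category.assoc ((yon S).map uT), ← (yon S).map_comp, huB, (yon S).map_comp, (yon S).map_comp,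
        Category.assoc, Category.assoc, e₂]
    · simp only [Category.assoc, w₀, h₁Y.lift_snd]
      rw [← Category.assoc ((yon S).map uT), ← (yon S).map_comp, hu₁, (yon S).map_comp, Category.assoc, e₃]
  have hw' : (yon S).map t₄ ≫ (yon S).map t₃ ≫ (yon S).map t₂ ≫ (yon S).map t₁ ≫ w' = (yon S).map uT ≫ w₀' := by
    apply h₁Y.hom_ext
    · simp only [Category.assoc, w₀', h₁Y.lift_fst]
      rw [← Category.assoc ((yon S).map uT), ← (yon S).map_comp, huB, (yon S).map_comp, (yon S).map_comp,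
        Category.assoc, Category.assoc, e₂, h]
    · simp only [Category.assoc, w₀', h₁Y.lift_snd]
      rw [← Category.assoc ((yon S).map uT), ← (yon S).map_comp, hu₂, e₄]
  calc (yon S).map t₄ ≫ (yon S).map t₃ ≫ (yon S).map t₂ ≫ (yon S).map t₁ ≫ w ≫ BY
      = ((yon S).map t₄ ≫ (yon S).map t₃ ≫ (yon S).map t₂ ≫ (yon S).map t₁ ≫ w) ≫ BY := by
        simp only [Category.assoc]
    _ = (yon S).map uT ≫ w₀ ≫ BY := by rw [hw, Category.assoc]
    _ = (yon S).map uT ≫ w₀' ≫ BY := by rw [H]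
    _ = ((yon S).map t₄ ≫ (yon S).map t₃ ≫ (yon S).map t₂ ≫ (yon S).map t₁ ≫ w') ≫ BY := by
        rw [hw', Category.assoc]
    _ = (yon S).map t₄ ≫ (yon S).map t₃ ≫ (yon S).map t₂ ≫ (yon S).map t₁ ≫ w' ≫ BY := by
        simp only [Category.assoc]

include hi hifp hFZ hflat hj hU hp₂ h₁U h₁Y hUY in
/-- Existence and uniqueness of the glued morphism. -/
theorem existsUnique_hom (hqc : IsQuasiCompactMor f) (hBU : BU ≫ p₂ = r₁U ≫ j) (hBY : BY ≫ p₂ = r₁Y ≫ f) :
    ∃! a : X₁.obj ⟶ X₂.obj, a ≫ p₂ = p₁ ∧ a₁U ≫ a = BU ∧ a₁Y ≫ a = BY := by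
  have agree : ∀ {P : Sp S} (w w' : P ⟶ A₁Y.obj), w ≫ a₁Y = w' ≫ a₁Y → w ≫ BY = w' ≫ BY :=
    fun w w' h => hom_ext_yon fun T x => by
      rw [← Category.assoc, ← Category.assoc]
      exact agree_scheme f hi hifp hFZ hflat hj hU hp₂ h₁U h₁Y BU BY hUY hBY _ _
        (by rw [Category.assoc, Category.assoc, h])
  have mixed : ∀ {P : Sp S} (w₁ : P ⟶ A₁U.obj) (w₂ : P ⟶ A₁Y.obj), w₁ ≫ a₁U = w₂ ≫ a₁Y → w₁ ≫ BU = w₂ ≫ BY :=
    fun w₁ w₂ h => hom_ext_yon fun T x => by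
      rw [← Category.assoc, ← Category.assoc]
      exact hUY T _ _ (by rw [Category.assoc, Category.assoc, h])
  have : Mono j := mono_of_isImmersion (repWith_mono (fun _ _ g (_ : IsOpenImmersion g) =>
    (inferInstance : IsImmersion g)) hj)
  have same : ∀ {P : Sp S} (w w' : P ⟶ A₁U.obj), w ≫ a₁U = w' ≫ a₁U → w ≫ BU = w' ≫ BU := fun w w' h => by
    have : w = w' := h₁U.hom_ext h (by
      rw [← cancel_mono j, Category.assoc, Category.assoc, ← h₁U.w, reassoc_of% h])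
    rw [this]
  obtain ⟨ι, W, wm, hW, hl⟩ := Gabber15.exists_cover hqc hi hifp hFZ hflat hj hU
  let Q := fun k => Limits.pullback p₁ (wm k)
  let q : ∀ k, Q k ⟶ X₁.obj := fun k => pullback.fst p₁ (wm k)
  have hQ : ∀ k, IsAlgSpace (Q k) := fun k =>
    isAlgSpace_pullback X.property X₁.property (W k).property (IsPullback.of_hasPullback _ _)
  have hcov : IsFpqcCover Q q := isFpqcCover_of_isPullback X.property X₁.property p₁
    (fun k => (W k).property) (fun k => IsPullback.of_hasPullback p₁ (wm k)) hW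
  have hlift : ∀ k, (∃ w : Q k ⟶ A₁U.obj, w ≫ a₁U = q k) ∨ (∃ w : Q k ⟶ A₁Y.obj, w ≫ a₁Y = q k) := fun k => by
    rcases hl k with ⟨l, e⟩ | ⟨l, e⟩
    · exact Or.inl ⟨h₁U.lift (q k) (pullback.snd _ _ ≫ l) (by rw [Category.assoc, e, pullback.condition]),
        h₁U.lift_fst _ _ _⟩
    · exact Or.inr ⟨h₁Y.lift (q k) (pullback.snd _ _ ≫ l) (by rw [Category.assoc, e, pullback.condition]),
        h₁Y.lift_fst _ _ _⟩
  have hb : ∀ k, ∃ b : Q k ⟶ X₂.obj, b ≫ p₂ = q k ≫ p₁ ∧ ∀ {P : Sp S} (t : P ⟶ Q k),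
      (∀ w₁ : P ⟶ A₁U.obj, w₁ ≫ a₁U = t ≫ q k → w₁ ≫ BU = t ≫ b) ∧
        (∀ w₂ : P ⟶ A₁Y.obj, w₂ ≫ a₁Y = t ≫ q k → w₂ ≫ BY = t ≫ b) := fun k => by
    rcases hlift k with ⟨w, hw⟩ | ⟨w, hw⟩
    · refine ⟨w ≫ BU, by rw [Category.assoc, hBU, ← h₁U.w, reassoc_of% hw], fun t =>
        ⟨fun w₁ h => ?_, fun w₂ h => ?_⟩⟩
      · rw [← Category.assoc]
        exact same w₁ (t ≫ w) (by rw [h, Category.assoc, hw])
      · rw [← Category.assoc]
        exact (mixed (t ≫ w) w₂ (by rw [h, Category.assoc, hw])).symm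
    · refine ⟨w ≫ BY, by rw [Category.assoc, hBY, ← h₁Y.w, reassoc_of% hw], fun t =>
        ⟨fun w₁ h => ?_, fun w₂ h => ?_⟩⟩
      · rw [← Category.assoc]
        exact mixed w₁ (t ≫ w) (by rw [h, Category.assoc, hw])
      · rw [← Category.assoc]
        exact agree w₂ (t ≫ w) (by rw [h, Category.assoc, hw])
  choose b hbp hbu using hb
  obtain ⟨a, ha⟩ := Gabber15.exists_hom_glue X₁.property hcov X₂.property b (fun k l => by
    rcases hlift k with ⟨w, hw⟩ | ⟨w, hw⟩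
    · have e := (hbu l (pullback.snd (q k) (q l))).1 (pullback.fst _ _ ≫ w)
        (by rw [Category.assoc, hw, pullback.condition])
      have e' := (hbu k (pullback.fst (q k) (q l))).1 (pullback.fst _ _ ≫ w) (by rw [Category.assoc, hw])
      rw [← e', e]
    · have e := (hbu l (pullback.snd (q k) (q l))).2 (pullback.fst _ _ ≫ w)
        (by rw [Category.assoc, hw, pullback.condition])
      have e' := (hbu k (pullback.fst (q k) (q l))).2 (pullback.fst _ _ ≫ w) (by rw [Category.assoc, hw])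
      rw [← e', e])
  have hcovU : IsFpqcCover (fun k => pullback a₁U (q k)) (fun k => pullback.fst a₁U (q k)) :=
    isFpqcCover_of_isPullback X₁.property A₁U.property a₁U hQ (fun k => IsPullback.of_hasPullback a₁U (q k)) hcov
  have hcovY : IsFpqcCover (fun k => pullback a₁Y (q k)) (fun k => pullback.fst a₁Y (q k)) :=
    isFpqcCover_of_isPullback X₁.property A₁Y.property a₁Y hQ (fun k => IsPullback.of_hasPullback a₁Y (q k)) hcov
  refine ⟨a, ⟨?_, ?_, ?_⟩, fun a' ha' => ?_⟩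
  · exact Gabber15.hom_ext_cover hcov X.property fun k => by rw [reassoc_of% (ha k), hbp k]
  · refine Gabber15.hom_ext_cover hcovU X₂.property fun k => ?_
    rw [reassoc_of% (pullback.condition (f := a₁U) (g := q k)), ha k]
    exact ((hbu k _).1 _ pullback.condition).symm
  · refine Gabber15.hom_ext_cover hcovY X₂.property fun k => ?_
    rw [reassoc_of% (pullback.condition (f := a₁Y) (g := q k)), ha k]
    exact ((hbu k _).2 _ pullback.condition).symm
  · refine Gabber15.hom_ext_cover hcov X₂.property fun k => ?_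
    rw [ha k]
    rcases hlift k with ⟨w, hw⟩ | ⟨w, hw⟩
    · rw [← hw, Category.assoc, ha'.2.1, (hbu k (𝟙 _)).1 w (by rw [Category.id_comp, hw]), Category.id_comp]
    · rw [← hw, Category.assoc, ha'.2.2, (hbu k (𝟙 _)).2 w (by rw [Category.id_comp, hw]), Category.id_comp]

end Groth.Agent.GlueModif25
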