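import Groth.Agent.Lib.GlueModif25.Algebra
import Mathlib.RingTheory.Flat.Stability
import Mathlib.RingTheory.Flat.Localization
import Mathlib.RingTheory.Localization.AtPrime.Basic
import Mathlib.RingTheory.Localization.Away.Basic
import Mathlib.RingTheory.LocalRing.RingHom.Basic

/-!
# An ideal of a triple tensor product supported on the closed subset is zero
-/

universe u

set_option backward.isDefEq.respectTransparency.types false

open TensorProduct

namespace Groth.Agent.GlueModif25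

theorem exists_atPrime_lift {A P T : Type u} [CommRing A] [CommRing P] [CommRing T] [Algebra A P] [Algebra A T]
    (p : Ideal P) [p.IsPrime] (ψ : P →ₐ[A] T) (hu : ∀ x, x ∉ p → IsUnit (ψ x)) :
    ∃ l : Localization.AtPrime p →ₐ[A] T, l.comp (IsScalarTower.toAlgHom A P _) = ψ :=
  ⟨{ toRingHom := IsLocalization.lift (M := p.primeCompl) (g := ψ.toRingHom) fun y => hu y y.2
     commutes' := fun r => by
       show IsLocalization.lift (M := p.primeCompl) (g := ψ.toRingHom) _ (algebraMap A (Localization.AtPrime p) r) = _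
       rw [IsScalarTower.algebraMap_apply A P (Localization.AtPrime p), IsLocalization.lift_eq]
       exact ψ.commutes r },
    AlgHom.ext fun a => IsLocalization.lift_eq _ a⟩

theorem algHom_ext_atPrime {A P T : Type u} [CommRing A] [CommRing P] [CommRing T] [Algebra A P] [Algebra A T]
    {p : Ideal P} [p.IsPrime] {l l' : Localization.AtPrime p →ₐ[A] T}
    (h : ∀ x, l (algebraMap P _ x) = l' (algebraMap P _ x)) : l = l' :=
  AlgHom.coe_ringHom_injective (IsLocalization.ringHom_ext p.primeCompl (RingHom.ext h))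

/-- Torsion elements vanishing on a flat algebra retracting modulo the ideal vanish locally. -/
theorem map_eq_zero_of_local {A B P P₂ D T : Type u} [CommRing A] [CommRing B] [CommRing P] [CommRing P₂]
    [CommRing D] [CommRing T] [Algebra A B] [Algebra A P] [Algebra A P₂] [Algebra A D] [Algebra A T]
    [Module.Flat A P₂] [Module.Flat A D] (G : Finset A) (p : Ideal P) [p.IsPrime] (pp : P →ₐ[A] P₂)
    (θ₂ : P₂ →ₐ[A] Localization.AtPrime p) (hθ₂ : θ₂.comp pp = IsScalarTower.toAlgHom A P _)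
    (hepi : ∀ (U : Type u) [CommRing U] [Algebra A U] (l l' : P₂ →ₐ[A] U), l.comp pp = l'.comp pp → l = l')
    (φ : P →ₐ[A] D)
    (ρ : D →ₐ[A] Localization.AtPrime p ⧸ (Ideal.span (G : Set A)).map (algebraMap A (Localization.AtPrime p)))
    [IsLocalHom ρ.toRingHom] (hρ : ∀ x, ρ (φ x) = Ideal.Quotient.mk _ (algebraMap _ _ x))
    (φ₂ : P₂ →ₐ[A] D) (hφ₂ : φ₂.comp pp = φ)
    (k : B ⊗[A] P) (htor : ∀ g ∈ G, ∃ n : ℕ, algebraMap A (B ⊗[A] P) g ^ n * k = 0)
    (hk : Algebra.TensorProduct.map (AlgHom.id A B) φ k = 0)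
    (cT : B ⊗[A] P →ₐ[A] T) (hT : ∀ x, x ∉ p → IsUnit (cT ((1 : B) ⊗ₜ[A] x))) : cT k = 0 := by
  let p₂ : Ideal P₂ := (IsLocalRing.maximalIdeal (Localization.AtPrime p)).comap θ₂.toRingHom
  have : Module.Flat A (Localization.AtPrime p₂) := Module.Flat.trans A P₂ _
  let c₃ : P₂ →ₐ[A] Localization.AtPrime p₂ := IsScalarTower.toAlgHom A P₂ _
  have hu₂ : ∀ x, x ∉ p₂ → IsUnit (θ₂ x) := fun x hx => IsLocalRing.notMem_maximalIdeal.1 hx
  have hωu : ∀ x, x ∉ p → IsUnit ((c₃.comp pp) x) := fun x hx => by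
    have hx' : pp x ∉ p₂ := fun h => by
      have h' : θ₂ (pp x) ∈ IsLocalRing.maximalIdeal (Localization.AtPrime p) := h
      rw [← AlgHom.comp_apply, hθ₂] at h'
      exact IsLocalRing.notMem_maximalIdeal.2
        (IsLocalization.map_units (Localization.AtPrime p) (⟨x, hx⟩ : p.primeCompl)) h'
    exact IsLocalization.map_units (Localization.AtPrime p₂) (⟨pp x, hx'⟩ : p₂.primeCompl)
  obtain ⟨ω, hω⟩ := exists_atPrime_lift p (c₃.comp pp) hωu
  obtain ⟨θ₃, hθ₃⟩ := exists_atPrime_lift p₂ θ₂ hu₂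
  let J := Ideal.span (G : Set A)
  let mkp : Localization.AtPrime p →ₐ[A] Localization.AtPrime p ⧸ J.map (algebraMap A (Localization.AtPrime p)) :=
    Ideal.Quotient.mkₐ A _
  have h2 : ρ.comp φ₂ = mkp.comp θ₂ := hepi _ _ _ (by
    rw [AlgHom.comp_assoc, hφ₂, AlgHom.comp_assoc, hθ₂]
    exact AlgHom.ext hρ)
  obtain ⟨φ₃, hφ₃⟩ := exists_atPrime_lift p₂ φ₂ fun x hx => by
    refine isUnit_of_map_unit ρ.toRingHom _ ?_
    show IsUnit (ρ (φ₂ x))
    rw [← AlgHom.comp_apply, h2]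
    exact (hu₂ x hx).map mkp
  let ω' : Localization.AtPrime p ⧸ J.map (algebraMap A (Localization.AtPrime p)) →ₐ[A]
      Localization.AtPrime p₂ ⧸ J.map (algebraMap A (Localization.AtPrime p₂)) :=
    Ideal.quotientMapₐ _ ω (by
      rw [← Ideal.map_le_iff_le_comap]
      refine le_of_eq ((Ideal.map_map _ _).trans ?_)
      exact congrArg (fun r => Ideal.map r J) ω.comp_algebraMap)
  have hωθ : ω.comp θ₂ = c₃ := hepi _ _ _ (by rw [AlgHom.comp_assoc, hθ₂, hω])
  have h3 : ∀ z, (ω'.comp ρ) (φ₃ z) = Ideal.Quotient.mk (J.map (algebraMap A (Localization.AtPrime p₂))) z :=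
    fun z => by
    refine AlgHom.congr_fun (φ₁ := (ω'.comp ρ).comp φ₃) (φ₂ := Ideal.Quotient.mkₐ A _) ?_ z
    refine algHom_ext_atPrime fun x => ?_
    show ω' (ρ (φ₃ (c₃ x))) = Ideal.Quotient.mk _ (c₃ x)
    rw [show φ₃ (c₃ x) = φ₂ x from AlgHom.congr_fun hφ₃ x, ← AlgHom.comp_apply ρ φ₂, h2,
      ← AlgHom.congr_fun hωθ x]
    rfl
  let c : P →ₐ[A] Localization.AtPrime p₂ := c₃.comp pp
  have hφc : φ₃.comp c = φ := by
    show φ₃.comp (c₃.comp pp) = φ
    rw [← AlgHom.comp_assoc, hφ₃, hφ₂]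
  have ht : Algebra.TensorProduct.map (AlgHom.id A B) c k = 0 := by
    refine eq_zero_of_torsion G φ₃.toLinearMap (ω'.comp ρ).toLinearMap h3 _ (fun g hg => ?_) ?_
    · obtain ⟨n, hn⟩ := htor g hg
      refine ⟨n, ?_⟩
      have := congrArg (Algebra.TensorProduct.map (AlgHom.id A B) c) hn
      rw [map_mul, map_pow, AlgHom.commutes, map_zero] at this
      rwa [Algebra.smul_def, map_pow]
    · rw [← hφc, ← AlgHom.id_comp (AlgHom.id A B), Algebra.TensorProduct.map_comp] at hk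
      exact hk
  obtain ⟨ν, hν⟩ := exists_atPrime_lift p (cT.comp Algebra.TensorProduct.includeRight) hT
  let Θ : B ⊗[A] Localization.AtPrime p₂ →ₐ[A] T :=
    Algebra.TensorProduct.lift (cT.comp Algebra.TensorProduct.includeLeft) (ν.comp θ₃) (fun _ _ => Commute.all _ _)
  have hΘ : Θ.comp (Algebra.TensorProduct.map (AlgHom.id A B) c) = cT := by
    refine Algebra.TensorProduct.ext' fun b x => ?_
    show Θ (Algebra.TensorProduct.map (AlgHom.id A B) c (b ⊗ₜ[A] x)) = cT (b ⊗ₜ[A] x)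
    rw [Algebra.TensorProduct.map_tmul, Algebra.TensorProduct.lift_tmul, AlgHom.id_apply, AlgHom.comp_apply,
      AlgHom.comp_apply,
      show θ₃ (c x) = algebraMap P _ x from (AlgHom.congr_fun hθ₃ (pp x)).trans (AlgHom.congr_fun hθ₂ x),
      show ν (algebraMap P _ x) = cT ((1 : B) ⊗ₜ[A] x) from AlgHom.congr_fun hν x, ← map_mul]
    simp
  rw [← hΘ, AlgHom.comp_apply, ht, map_zero]

variable {A B V V' : Type u} [CommRing A] [CommRing B] [CommRing V] [CommRing V'] [Algebra A B] [Algebra A V]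
  [Algebra A V']

theorem ideal_eq_bot (G : Finset A) (I : Ideal (B ⊗[A] (V ⊗[A] V')))
    (hU : ∀ g ∈ G, I ≤ RingHom.ker (algebraMap (B ⊗[A] (V ⊗[A] V'))
      (Localization.Away (algebraMap A (B ⊗[A] (V ⊗[A] V')) g))))
    (hV : ∀ (q : Ideal V) [q.IsPrime], (∀ g ∈ G, algebraMap A V g ∈ q) → Module.Flat A (Localization.AtPrime q))
    (hV' : ∀ (q : Ideal V') [q.IsPrime], (∀ g ∈ G, algebraMap A V' g ∈ q) → Module.Flat A (Localization.AtPrime q))
    (hD : ∀ (p : Ideal (V ⊗[A] V')) [p.IsPrime], (∀ g ∈ G, algebraMap A (V ⊗[A] V') g ∈ p) →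
      ∃ (D : Type u) (_ : CommRing D) (_ : Algebra A D) (_ : Module.Flat A D) (φ : V ⊗[A] V' →ₐ[A] D)
        (ρ : D →ₐ[A] Localization.AtPrime p ⧸ (Ideal.span (G : Set A)).map (algebraMap A (Localization.AtPrime p))),
        IsLocalHom ρ.toRingHom ∧ (∀ x, ρ (φ x) = Ideal.Quotient.mk _ (algebraMap _ _ x)) ∧
          I ≤ RingHom.ker (Algebra.TensorProduct.map (AlgHom.id A B) φ).toRingHom) :
    I = ⊥ := by
  refine (Submodule.eq_bot_iff _).2 fun k hk => ?_
  by_contra hk0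
  obtain ⟨m, hm, hle⟩ := Ideal.exists_le_maximal (LinearMap.ker
      (LinearMap.toSpanSingleton (B ⊗[A] (V ⊗[A] V')) (B ⊗[A] (V ⊗[A] V')) k))
    (fun h => hk0 (by simpa using (Ideal.eq_top_iff_one _).1 h))
  have hann : ∀ s, s * k = 0 → s ∈ m := fun s hs => hle (by simpa using hs)
  have htor : ∀ g ∈ G, ∃ n : ℕ, algebraMap A (B ⊗[A] (V ⊗[A] V')) g ^ n * k = 0 := fun g hg => by
    obtain ⟨⟨_, n, rfl⟩, hn⟩ := (IsLocalization.map_eq_zero_iff
      (Submonoid.powers (algebraMap A (B ⊗[A] (V ⊗[A] V')) g))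
      (Localization.Away (algebraMap A (B ⊗[A] (V ⊗[A] V')) g)) k).1 (RingHom.mem_ker.1 (hU g hg hk))
    exact ⟨n, hn⟩
  have hGm : ∀ g ∈ G, algebraMap A (B ⊗[A] (V ⊗[A] V')) g ∈ m := fun g hg => by
    obtain ⟨n, hn⟩ := htor g hg
    exact hm.isPrime.mem_of_pow_mem n (hann _ hn)
  let inR : V ⊗[A] V' →ₐ[A] B ⊗[A] (V ⊗[A] V') := Algebra.TensorProduct.includeRight
  let p : Ideal (V ⊗[A] V') := m.comap inR.toRingHom
  have hGp : ∀ g ∈ G, algebraMap A (V ⊗[A] V') g ∈ p := fun g hg => by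
    show inR (algebraMap A _ g) ∈ m
    rw [inR.commutes]
    exact hGm g hg
  let i₁ : V →ₐ[A] V ⊗[A] V' := Algebra.TensorProduct.includeLeft
  let i₂ : V' →ₐ[A] V ⊗[A] V' := Algebra.TensorProduct.includeRight
  let q := p.comap i₁.toRingHom
  let q' := p.comap i₂.toRingHom
  have : Module.Flat A (Localization.AtPrime q) := hV q fun g hg => by
    show i₁ (algebraMap A V g) ∈ p
    rw [i₁.commutes]; exact hGp g hg
  have : Module.Flat A (Localization.AtPrime q') := hV' q' fun g hg => by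
    show i₂ (algebraMap A V' g) ∈ p
    rw [i₂.commutes]; exact hGp g hg
  let cP : V ⊗[A] V' →ₐ[A] Localization.AtPrime p := IsScalarTower.toAlgHom A _ _
  let pp : V ⊗[A] V' →ₐ[A] Localization.AtPrime q ⊗[A] Localization.AtPrime q' :=
    Algebra.TensorProduct.map (IsScalarTower.toAlgHom A V _) (IsScalarTower.toAlgHom A V' _)
  obtain ⟨α₁, hα₁⟩ := exists_atPrime_lift q (cP.comp i₁) fun x hx =>
    IsLocalization.map_units (Localization.AtPrime p) (⟨i₁ x, hx⟩ : p.primeCompl)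
  obtain ⟨α₂, hα₂⟩ := exists_atPrime_lift q' (cP.comp i₂) fun x hx =>
    IsLocalization.map_units (Localization.AtPrime p) (⟨i₂ x, hx⟩ : p.primeCompl)
  obtain ⟨D, _, _, _, φ, ρ, hloc, hρ, hID⟩ := hD p hGp
  have hφu : ∀ x : V ⊗[A] V', x ∉ p → IsUnit (φ x) := fun x hx => by
    refine isUnit_of_map_unit ρ.toRingHom _ ?_
    show IsUnit (ρ (φ x))
    rw [hρ]
    exact (IsLocalization.map_units (Localization.AtPrime p) (⟨x, hx⟩ : p.primeCompl)).map _
  obtain ⟨β₁, hβ₁⟩ := exists_atPrime_lift q (φ.comp i₁) fun x hx => hφu _ hx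
  obtain ⟨β₂, hβ₂⟩ := exists_atPrime_lift q' (φ.comp i₂) fun x hx => hφu _ hx
  let cT : B ⊗[A] (V ⊗[A] V') →ₐ[A] Localization.AtPrime m := IsScalarTower.toAlgHom A _ _
  have key : ∀ {U : Type u} [CommRing U] [Algebra A U] (a₁ : Localization.AtPrime q →ₐ[A] U)
      (a₂ : Localization.AtPrime q' →ₐ[A] U) (ψ : V ⊗[A] V' →ₐ[A] U),
      a₁.comp (IsScalarTower.toAlgHom A V _) = ψ.comp i₁ → a₂.comp (IsScalarTower.toAlgHom A V' _) = ψ.comp i₂ →
      (Algebra.TensorProduct.lift a₁ a₂ (fun _ _ => Commute.all _ _)).comp pp = ψ := by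
    intro U _ _ a₁ a₂ ψ h1 h2
    refine Algebra.TensorProduct.ext' fun a b => ?_
    show Algebra.TensorProduct.lift a₁ a₂ (fun _ _ => Commute.all _ _) (pp (a ⊗ₜ[A] b)) = ψ (a ⊗ₜ[A] b)
    rw [Algebra.TensorProduct.map_tmul, Algebra.TensorProduct.lift_tmul, ← AlgHom.comp_apply a₁,
      ← AlgHom.comp_apply a₂, h1, h2, AlgHom.comp_apply, AlgHom.comp_apply, ← map_mul]
    simp [i₁, i₂]
  have hepi : ∀ (U : Type u) [CommRing U] [Algebra A U]
      (l l' : Localization.AtPrime q ⊗[A] Localization.AtPrime q' →ₐ[A] U), l.comp pp = l'.comp pp → l = l' := by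
    intro U _ _ l l' h
    refine Algebra.TensorProduct.ext (algHom_ext_atPrime (p := q) fun y => ?_) ?_
    · simpa [pp] using AlgHom.congr_fun h (y ⊗ₜ[A] 1)
    · refine algHom_ext_atPrime (p := q') fun y => ?_
      simpa [pp] using AlgHom.congr_fun h ((1 : V) ⊗ₜ[A] y)
  have hz : cT k = 0 := map_eq_zero_of_local (T := Localization.AtPrime m) G p pp
    (Algebra.TensorProduct.lift α₁ α₂ (fun _ _ => Commute.all _ _)) (key α₁ α₂ cP hα₁ hα₂) hepi φ ρ hρ
    (Algebra.TensorProduct.lift β₁ β₂ (fun _ _ => Commute.all _ _)) (key β₁ β₂ φ hβ₁ hβ₂) k htor (hID hk) cT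
    fun x hx => IsLocalization.map_units (Localization.AtPrime m) (⟨inR x, hx⟩ : m.primeCompl)
  obtain ⟨⟨s, hs⟩, hsk⟩ := (IsLocalization.map_eq_zero_iff m.primeCompl (Localization.AtPrime m) k).1 hz
  exact hs (hann s hsk)

end Groth.Agent.GlueModif25
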